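import Cfsg.Agent.Kinf.JDegree.Host
import Mathlib.GroupTheory.OrderOfElement

/-!
A normal subgroup `C ≤ Q` of class two with `[C, Q] ≤ Z(C)`: for an abelian subgroup `A` of largest
order outside `Q`, chosen to meet first `Z(C)` and then `C` as much as possible, four commutators
with `A` take `C` into `Z(C)`.
-/

set_option autoImplicit false
set_option linter.unusedSectionVars false
set_option linter.style.haveILetI false

namespace CfsgLib.JDegree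

open Subgroup
open scoped commutatorElement

variable {P : Type*} [Group P] [Finite P]

/-- A subgroup of `Z` attaining the bound. -/
def IsFull (A Z R : Subgroup P) : Prop :=
  R ≤ Z ∧ A ⊓ Z ≤ R ∧
    Nat.card A * Nat.card ↥(A ⊓ Z) ≤ Nat.card R * Nat.card ↥(A ⊓ centralizer (R : Set P))

variable {A Q Z C : Subgroup P}

theorem Host.inf_le_centralizer (h : Host A Q Z) {R : Subgroup P} (hR : R ≤ Z) :
    A ⊓ Z ≤ A ⊓ centralizer (R : Set P) :=
  le_inf inf_le_left fun k hk => mem_centralizer_iff.2 fun u hu => (h.abl u (hR hu) k hk.2).eq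

theorem Host.isFull_inf (h : Host A Q Z) : IsFull A Z (A ⊓ Z) := by
  refine ⟨inf_le_right, le_rfl, ?_⟩
  rw [mul_comm (Nat.card A)]
  refine Nat.mul_le_mul_left _ (Nat.card_le_card_of_injective _
    (inclusion_injective (le_inf le_rfl fun k hk => mem_centralizer_iff.2 fun u hu =>
      (abl_of_max h.max u hu.1 k hk).eq)))

theorem Host.isFull_sup (h : Host A Q Z) {R R' : Subgroup P} (hR : IsFull A Z R)
    (hR' : IsFull A Z R') : IsFull A Z (R ⊔ R') := by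
  refine ⟨sup_le hR.1 hR'.1, hR.2.1.trans le_sup_left, ?_⟩
  set C1 := A ⊓ centralizer (R : Set P)
  set C2 := A ⊓ centralizer (R' : Set P)
  have hAb := abl_of_max h.max
  have hc : ∀ u ∈ R, ∀ v ∈ R', Commute u v := fun u hu v hv => h.abl u (hR.1 hu) v (hR'.1 hv)
  have hcC : ∀ u ∈ C1, ∀ v ∈ C2, Commute u v := fun u hu v hv => hAb u hu.1 v hv.1
  have hsup : C1 ⊓ C2 ≤ A ⊓ centralizer ((R ⊔ R' : Subgroup P) : Set P) := by
    refine le_inf (inf_le_left.trans inf_le_left) fun k hk => ?_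
    rw [Subgroup.sup_eq_closure, centralizer_closure]
    refine mem_centralizer_iff.2 ?_
    rintro v (hv | hv)
    · exact mem_centralizer_iff.1 hk.1.2 v hv
    · exact mem_centralizer_iff.1 hk.2.2 v hv
  have hinf : C1 ⊔ C2 ≤ A ⊓ centralizer ((R ⊓ R' : Subgroup P) : Set P) :=
    sup_le (inf_le_inf_left A (centralizer_le (inf_le_left : R ⊓ R' ≤ R)))
      (inf_le_inf_left A (centralizer_le (inf_le_right : R ⊓ R' ≤ R')))
  have hAinf : A ⊓ (R ⊓ R') = A ⊓ Z :=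
    le_antisymm (inf_le_inf_left A (inf_le_left.trans hR.1))
      (le_inf inf_le_left (le_inf hR.2.1 hR'.2.1))
  have h1 := card_mul_card_cent_le h.max
    (h.abl.mono ((inf_le_left : R ⊓ R' ≤ R).trans hR.1))
  rw [hAinf] at h1
  have h2 : Nat.card ↥(C1 ⊔ C2) ≤ Nat.card ↥(A ⊓ centralizer ((R ⊓ R' : Subgroup P) : Set P)) :=
    Nat.card_le_card_of_injective _ (inclusion_injective hinf)
  have h3 : Nat.card ↥(C1 ⊓ C2) ≤ Nat.card ↥(A ⊓ centralizer ((R ⊔ R' : Subgroup P) : Set P)) :=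
    Nat.card_le_card_of_injective _ (inclusion_injective hsup)
  have e1 := card_sup hc
  have e2 := card_sup hcC
  set N := Nat.card A * Nat.card ↥(A ⊓ Z)
  have hN : 0 < N := Nat.mul_pos Nat.card_pos Nat.card_pos
  refine Nat.le_of_mul_le_mul_right ?_ hN
  calc N * N ≤ (Nat.card R * Nat.card C1) * (Nat.card R' * Nat.card C2) :=
        Nat.mul_le_mul hR.2.2 hR'.2.2
    _ = (Nat.card R * Nat.card R') * (Nat.card C1 * Nat.card C2) := by ring
    _ = (Nat.card ↥(R ⊔ R') * Nat.card ↥(R ⊓ R')) *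
          (Nat.card ↥(C1 ⊔ C2) * Nat.card ↥(C1 ⊓ C2)) := by rw [e1, e2]
    _ ≤ (Nat.card ↥(R ⊔ R') * Nat.card ↥(R ⊓ R')) *
          (Nat.card ↥(A ⊓ centralizer ((R ⊓ R' : Subgroup P) : Set P)) *
            Nat.card ↥(A ⊓ centralizer ((R ⊔ R' : Subgroup P) : Set P))) :=
        Nat.mul_le_mul_left _ (Nat.mul_le_mul h2 h3)
    _ = (Nat.card ↥(R ⊔ R') * Nat.card ↥(A ⊓ centralizer ((R ⊔ R' : Subgroup P) : Set P))) *
          (Nat.card ↥(R ⊓ R') * Nat.card ↥(A ⊓ centralizer ((R ⊓ R' : Subgroup P) : Set P))) := by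
        ring
    _ ≤ _ := Nat.mul_le_mul_left _ h1

theorem Host.isFull_cycl (h : Host A Q Z) {x : P} (hx : x ∈ Z) :
    IsFull A Z (cycl A x ⊔ (A ⊓ Z)) := by
  set M := cycl A x
  have hMZ : M ≤ Z := h.cycl_le hx
  have hc : ∀ u ∈ M, ∀ v ∈ A ⊓ Z, Commute u v := fun u hu v hv => h.abl u (hMZ hu) v hv.2
  refine ⟨sup_le hMZ inf_le_right, le_sup_right, ?_⟩
  have hinf : M ⊓ (A ⊓ Z) = A ⊓ M :=
    le_antisymm (le_inf (inf_le_right.trans inf_le_left) inf_le_left)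
      (le_inf inf_le_right (le_inf inf_le_left (inf_le_right.trans hMZ)))
  have hsub : A ⊓ centralizer (M : Set P) ≤
      A ⊓ centralizer ((M ⊔ (A ⊓ Z) : Subgroup P) : Set P) := by
    rintro k ⟨hkA, hk⟩
    refine ⟨hkA, ?_⟩
    rw [Subgroup.sup_eq_closure, centralizer_closure]
    refine mem_centralizer_iff.2 ?_
    rintro v (hv | hv)
    · exact mem_centralizer_iff.1 hk v hv
    · exact (abl_of_max h.max v hv.1 k hkA).eq
  refine Nat.le_of_mul_le_mul_right ?_ (Nat.card_pos (α := ↥(A ⊓ M)))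
  calc Nat.card A * Nat.card ↥(A ⊓ Z) * Nat.card ↥(A ⊓ M)
      = Nat.card A * Nat.card ↥(A ⊓ M) * Nat.card ↥(A ⊓ Z) := by ring
    _ = Nat.card M * Nat.card ↥(A ⊓ centralizer (M : Set P)) * Nat.card ↥(A ⊓ Z) := by
        rw [(cycl_full h.max (h.abl.mono hMZ)).1]
    _ = Nat.card M * Nat.card ↥(A ⊓ Z) * Nat.card ↥(A ⊓ centralizer (M : Set P)) := by ring
    _ = Nat.card ↥(M ⊔ (A ⊓ Z)) * Nat.card ↥(A ⊓ M) *
          Nat.card ↥(A ⊓ centralizer (M : Set P)) := by rw [← card_sup hc, hinf]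
    _ ≤ Nat.card ↥(M ⊔ (A ⊓ Z)) * Nat.card ↥(A ⊓ M) *
          Nat.card ↥(A ⊓ centralizer ((M ⊔ (A ⊓ Z) : Subgroup P) : Set P)) :=
        Nat.mul_le_mul_left _ (Nat.card_le_card_of_injective _ (inclusion_injective hsub))
    _ = _ := by ring

/-- A full subgroup containing all `[w, A]`, `w ∈ Z`. -/
theorem Host.exists_isFull_top (h : Host A Q Z) :
    ∃ R, IsFull A Z R ∧ ∀ w ∈ Z, cycl A w ≤ R := by
  obtain ⟨R, hR⟩ := (Set.toFinite {R : Subgroup P | IsFull A Z R}).exists_maximal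
    ⟨_, h.isFull_inf⟩
  exact ⟨R, hR.prop, fun w hw => le_sup_left.trans
    ((le_sup_right : _ ≤ R ⊔ (cycl A w ⊔ (A ⊓ Z))).trans
      (hR.2 (h.isFull_sup hR.prop (h.isFull_cycl hw)) le_sup_left))⟩

/-- The hypotheses on `C`. -/
structure Host2 (A Q Z C : Subgroup P) : Prop where
  host : Host A Q Z
  normal : C.Normal
  le : C ≤ Q
  center : C ⊓ centralizer (C : Set P) = Z
  comm : ∀ u ∈ C, ∀ q ∈ Q, ⁅u, q⁆ ∈ Z
  meas : ∀ A' ∈ Cfsg.maxAbelianSubgroups P, ¬ A' ≤ Q →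
    Nat.card ↥(A ⊓ Z) ≤ Nat.card ↥(A' ⊓ Z) → Nat.card ↥(A' ⊓ C) ≤ Nat.card ↥(A ⊓ C)
  odd : Odd (Nat.card P)

theorem Host2.z_le (h : Host2 A Q Z C) : Z ≤ C := h.center.symm.le.trans inf_le_left

theorem Host2.central (h : Host2 A Q Z C) {z u : P} (hz : z ∈ Z) (hu : u ∈ C) : Commute z u :=
  (mem_centralizer_iff.1 (h.center.symm.le.trans inf_le_right hz) u hu).symm

theorem Host2.comm_mem (h : Host2 A Q Z C) {u : P} (hu : u ∈ C) (c : P) : ⁅u, c⁆ ∈ C :=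
  haveI := h.normal
  comm_mem_normal hu c

theorem Host2.comm_mem_z (h : Host2 A Q Z C) {u v : P} (hu : u ∈ C) (hv : v ∈ C) : ⁅u, v⁆ ∈ Z :=
  h.comm u hu v (h.le hv)

theorem Host2.pair_mul_left (h : Host2 A Q Z C) {u u' v : P} (hu : u ∈ C) (hu' : u' ∈ C)
    (hv : v ∈ C) : ⁅u * u', v⁆ = ⁅u, v⁆ * ⁅u', v⁆ := by
  rw [comm_mul_left, ← (h.central (h.comm_mem_z hu' hv) hu).eq]
  rw [show ⁅u', v⁆ * u * u⁻¹ = ⁅u', v⁆ by group]
  exact (h.host.abl _ (h.comm_mem_z hu' hv) _ (h.comm_mem_z hu hv)).eq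

theorem Host2.pair_inv_left (h : Host2 A Q Z C) {u v : P} (hu : u ∈ C) (hv : v ∈ C) :
    ⁅u⁻¹, v⁆ = ⁅u, v⁆⁻¹ := by
  have e := h.pair_mul_left hu (inv_mem hu) hv
  rw [mul_inv_cancel, commutatorElement_one_left] at e
  exact eq_inv_of_mul_eq_one_right e.symm

theorem Host2.pair_mul_right (h : Host2 A Q Z C) {u v v' : P} (hu : u ∈ C) (hv : v ∈ C)
    (hv' : v' ∈ C) : ⁅u, v * v'⁆ = ⁅u, v⁆ * ⁅u, v'⁆ := by
  rw [comm_mul_right, ← (h.central (h.comm_mem_z hu hv') hv).eq]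
  group

theorem Host2.pair_inv_right (h : Host2 A Q Z C) {u v : P} (hu : u ∈ C) (hv : v ∈ C) :
    ⁅u, v⁻¹⁆ = ⁅u, v⁆⁻¹ := by
  have e := h.pair_mul_right hu hv (inv_mem hv)
  rw [mul_inv_cancel, commutatorElement_one_right] at e
  exact eq_inv_of_mul_eq_one_right e.symm

/-- The commutator of two elements of `C` centralizes `Q`. -/
theorem Host2.pair_commute (h : Host2 A Q Z C) {u v q : P} (hu : u ∈ C) (hv : v ∈ C) (hq : q ∈ Q) :
    Commute ⁅u, v⁆ q := by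
  have h1 := h.comm u hu q hq
  have h2 := h.comm v hv q hq
  have eu : q * u * q⁻¹ = ⁅u, q⁆⁻¹ * u := by simp only [commutatorElement_def]; group
  have ev : q * v * q⁻¹ = ⁅v, q⁆⁻¹ * v := by simp only [commutatorElement_def]; group
  have e : q * ⁅u, v⁆ * q⁻¹ = ⁅q * u * q⁻¹, q * v * q⁻¹⁆ := by
    simp only [commutatorElement_def]; group
  have z1 := h.z_le (inv_mem h1)
  have z2 := h.z_le (inv_mem h2)
  have c1 : ∀ w ∈ C, ⁅⁅u, q⁆⁻¹, w⁆ = 1 := fun w hw =>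
    commutatorElement_eq_one_iff_commute.2 (h.central (inv_mem h1) hw)
  have c2 : ⁅u, ⁅v, q⁆⁻¹⁆ = 1 :=
    commutatorElement_eq_one_iff_commute.2 (h.central (inv_mem h2) hu).symm
  rw [eu, ev, h.pair_mul_left z1 hu (mul_mem z2 hv), c1 _ (mul_mem z2 hv),
    h.pair_mul_right hu z2 hv, c2, one_mul, one_mul] at e
  show ⁅u, v⁆ * q = q * ⁅u, v⁆
  calc ⁅u, v⁆ * q = q * ⁅u, v⁆ * q⁻¹ * q := by rw [e]
    _ = q * ⁅u, v⁆ := by group

theorem Host2.pair_comm_fix [Group.IsNilpotent P] (h : Host2 A Q Z C) {u v c : P} (hu : u ∈ C)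
    (hv : v ∈ C) (hc : c ∈ A) : ⁅⁅u, v⁆, c⁆ ∈ A :=
  h.host.quad (h.comm_mem_z hu hv) (fun _ _ hk => h.pair_commute hu hv hk) c hc

/-- Moving a commutator with an element across the pairing. -/
theorem Host2.transfer (h : Host2 A Q Z C) {u v : P} (hu : u ∈ C) (hv : v ∈ C) (c : P) :
    ⁅⁅u, c⁆, v⁆ = ⁅⁅u, v⁆, c⁆ * ⁅⁅u, c⁆, ⁅v, c⁆⁆ * ⁅u, ⁅v, c⁆⁆⁻¹ := by
  haveI := h.host.normal
  have eu : c * u * c⁻¹ = ⁅u, c⁆⁻¹ * u := by simp only [commutatorElement_def]; group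
  have ev : c * v * c⁻¹ = ⁅v, c⁆⁻¹ * v := by simp only [commutatorElement_def]; group
  have hX : c * ⁅u, v⁆ * c⁻¹ = ⁅⁅u, v⁆, c⁆⁻¹ * ⁅u, v⁆ := by
    simp only [commutatorElement_def]; group
  have e : c * ⁅u, v⁆ * c⁻¹ = ⁅c * u * c⁻¹, c * v * c⁻¹⁆ := by
    simp only [commutatorElement_def]; group
  have hDu := h.comm_mem hu c
  have hDv := h.comm_mem hv c
  rw [hX, eu, ev, h.pair_mul_left (inv_mem hDu) hu (mul_mem (inv_mem hDv) hv),
    h.pair_inv_left hDu (mul_mem (inv_mem hDv) hv),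
    h.pair_mul_right hDu (inv_mem hDv) hv, h.pair_mul_right hu (inv_mem hDv) hv,
    h.pair_inv_right hDu hDv, h.pair_inv_right hu hDv] at e
  have mW : ⁅⁅u, v⁆, c⁆ ∈ Z := comm_mem_normal (h.comm_mem_z hu hv) c
  set W : Z := ⟨_, mW⟩ with hW
  set X : Z := ⟨_, h.comm_mem_z hu hv⟩ with hXd
  set T : Z := ⟨_, h.comm_mem_z hDu hv⟩ with hT
  set R : Z := ⟨_, h.comm_mem_z hu hDv⟩ with hR
  set S : Z := ⟨_, h.comm_mem_z hDu hDv⟩ with hS
  letI : CommGroup Z := { (inferInstance : Group Z) with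
    mul_comm := fun a b => Subtype.ext (h.host.abl a a.2 b b.2).eq }
  have e' : W⁻¹ * X = (S⁻¹ * T)⁻¹ * (R⁻¹ * X) := Subtype.ext e
  have e1 : W⁻¹ = T⁻¹ * S * R⁻¹ := by
    have := congrArg (fun g => g * X⁻¹) e'
    simp only [mul_inv_rev, inv_inv, mul_assoc, mul_inv_cancel, mul_one] at this
    rw [mul_assoc]; exact this
  have : T = W * S * R⁻¹ := by
    calc T = (T⁻¹ * S * R⁻¹)⁻¹ * S * R⁻¹ := by
          rw [mul_inv_rev, mul_inv_rev, inv_inv, inv_inv]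
          rw [show R * (S⁻¹ * T) * S * R⁻¹ = T * (S⁻¹ * S) * (R * R⁻¹) by ac_rfl]
          simp
      _ = W * S * R⁻¹ := by rw [← e1, inv_inv]
  exact congrArg Subtype.val this

theorem Host2.mem_of_sq (h : Host2 A Q Z C) {g : P} (hg : g * g ∈ A) : g ∈ A := by
  obtain ⟨m, hm⟩ := h.odd.of_dvd_nat (orderOf_dvd_natCard g)
  have e : g = (g * g) ^ (m + 1) := by
    rw [← sq, ← pow_mul, show 2 * (m + 1) = orderOf g + 1 by omega, pow_succ, pow_orderOf_eq_one,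
      one_mul]
  rw [e]; exact pow_mem hg _

end CfsgLib.JDegree
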