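import Cfsg.Agent.Kinf.JDegree.Degree
import Cfsg.Agent.Kinf.Leibniz
import Cfsg.Agent.Kinf.GlobalSteps
import Cfsg.Agent.Kinf.Critical
import Cfsg.Agent.Kinf.Consequences

/-!
For `p ≥ 7` the Thompson subgroup generated by the abelian subgroups of largest order controls
transfer.
-/

set_option autoImplicit false
set_option linter.unusedSectionVars false
set_option linter.style.haveILetI false

namespace CfsgLib.JDegree

open Subgroup CfsgLib.Functor CfsgLib.Kinf
open scoped CfsgLib.Functor commutatorElement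

universe u

theorem mem_max_map {Q R : Type u} [Group Q] [Group R] (φ : Q ≃* R) {B : Subgroup Q}
    (hB : B ∈ Cfsg.maxAbelianSubgroups Q) :
    B.map φ.toMonoidHom ∈ Cfsg.maxAbelianSubgroups R := by
  haveI := hB.1
  refine ⟨inferInstance, fun B' hB' => ?_⟩
  haveI := hB'
  rw [card_map_of_injective φ.injective,
    ← card_map_of_injective (K := B') (f := φ.symm.toMonoidHom) φ.symm.injective]
  exact hB.2 (B'.map φ.symm.toMonoidHom) inferInstance

theorem exists_max (Q : Type u) [Group Q] [Finite Q] :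
    ∃ B : Subgroup Q, B ∈ Cfsg.maxAbelianSubgroups Q := by
  obtain ⟨B, hB, hmax⟩ := Set.exists_max_image {B : Subgroup Q | IsMulCommutative B}
    (fun B => Nat.card B) (Set.toFinite _) ⟨⊥, show IsMulCommutative (⊥ : Subgroup Q) from inferInstance⟩
  exact ⟨B, hB, fun B' hB' => hmax B' hB'⟩

theorem isCharPFunctor_thompsonA (p : ℕ) :
    Cfsg.IsCharPFunctor.{u} p (fun Q [Group Q] => Cfsg.thompsonSubgroupA Q) := by
  refine ⟨fun Q _ _ _ hn hb => ?_, fun Q R _ _ _ _ φ => ?_⟩
  · obtain ⟨x, hx⟩ := exists_ne (1 : Q)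
    obtain ⟨B, hB⟩ := exists_max Q
    have hB0 : B = ⊥ := le_bot_iff.1 ((le_sSup hB).trans (le_of_eq hb))
    have h1 := card_le_of_abl hB (R := zpowers x) (fun u hu v hv => by
      obtain ⟨m, rfl⟩ := mem_zpowers_iff.1 hu
      obtain ⟨n, rfl⟩ := mem_zpowers_iff.1 hv
      exact Commute.zpow_zpow_self x m n)
    rw [hB0, card_bot, card_le_one_iff_eq_bot, zpowers_eq_bot] at h1
    exact hx h1
  · refine le_antisymm (map_le_iff_le_comap.2 (sSup_le fun B hB => map_le_iff_le_comap.1
      (le_sSup (mem_max_map φ hB)))) (sSup_le fun B hB => ?_)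
    have h := map_mono (f := φ.toMonoidHom) (le_sSup (mem_max_map φ.symm hB) :
      B.map φ.symm.toMonoidHom ≤ Cfsg.thompsonSubgroupA Q)
    rw [map_map, show φ.toMonoidHom.comp φ.symm.toMonoidHom = MonoidHom.id R from
      MonoidHom.ext fun x => φ.apply_symm_apply x, map_id] at h
    exact h

variable {G : Type u} [Group G] [Finite G] {p : ℕ} [Fact p.Prime]

theorem normal_of_forall_le (S : Sylow p G) {T : Subgroup G} [hT : T.Normal] (hTS : T ≤ S)
    (h : ∀ B ∈ Cfsg.maxAbelianSubgroups (S : Subgroup G), B ≤ T.subgroupOf (S : Subgroup G)) :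
    (Cfsg.inducedFunctor (G := G) (fun Q [Group Q] => Cfsg.thompsonSubgroupA Q)
      (S : Subgroup G)).Normal := by
  refine ⟨fun x hx g => ?_⟩
  have key : (Cfsg.thompsonSubgroupA (S : Subgroup G)).map (S : Subgroup G).subtype ≤
      ((Cfsg.thompsonSubgroupA (S : Subgroup G)).map (S : Subgroup G).subtype).comap
        (MulAut.conj g).toMonoidHom := by
    rw [← map_le_iff_le_comap, map_map, map_le_iff_le_comap]
    refine sSup_le fun B hB => ?_
    rw [← map_le_iff_le_comap, ← map_map]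
    set B' := (B.map (S : Subgroup G).subtype).map (MulAut.conj g).toMonoidHom with hB'
    have hB'S : B' ≤ S := by
      refine le_trans ?_ hTS
      rw [hB']
      refine map_le_iff_le_comap.2 ((map_le_iff_le_comap.2 (h B hB)).trans ?_)
      intro y hy
      exact hT.conj_mem y hy g
    haveI := hB.1
    haveI : IsMulCommutative B' := inferInstance
    have hmem : B'.subgroupOf (S : Subgroup G) ∈ Cfsg.maxAbelianSubgroups (S : Subgroup G) := by
      refine ⟨inferInstance, fun C hC => (hB.2 C hC).trans (le_of_eq ?_)⟩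
      rw [Nat.card_congr (subgroupOfEquivOfLe hB'S).toEquiv, hB',
        card_map_of_injective (MulAut.conj g).injective,
        card_map_of_injective (subtype_injective _)]
    rw [← map_subgroupOf_eq_of_le hB'S]
    exact map_mono (le_sSup hmem)
  exact key hx

/-- An element outside `O_p` of degree at most six on its chief factors. -/
theorem exists_degree_six (hp : p ≠ 2) (S : Sylow p G)
    (hJ : ¬ (Cfsg.inducedFunctor (G := G) (fun Q [Group Q] => Cfsg.thompsonSubgroupA Q)
      (S : Subgroup G)).Normal) :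
    ∃ g : G, g ∈ (S : Subgroup G) ∧ g ∉ Cfsg.pCore p G ∧ KillsBelow g 6 (Cfsg.pCore p G) := by
  classical
  set T := Cfsg.pCore p G with hT
  have hTp : IsPGroup p T := Solvable.isPGroup_pCore p
  have hTS : T ≤ S := by
    obtain ⟨n, -, hle⟩ := (isSylowIn_top S).exists_cj_le hTp le_top
    rwa [mem_normalizer_iff_cj.1 (by rw [normalizer_eq_top]; exact mem_top n)] at hle
  obtain ⟨H, hHc, -, hH2, hH3⟩ := exists_critical hTp
  set C := H.map T.subtype with hC
  haveI hCn : C.Normal := by haveI := hHc; exact ConjAct.normal_of_characteristic_of_normal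
  have hCT : C ≤ T := map_subtype_le H
  have hZC : (H ⊓ centralizer (H : Set T)).map T.subtype = C ⊓ centralizer (C : Set G) :=
    center_map T.subtype T.subtype_injective H
  have hC3 : ⁅T, C⁆ ≤ C ⊓ centralizer (C : Set G) := by
    have he : T = (⊤ : Subgroup T).map T.subtype := by
      rw [← MonoidHom.range_eq_map, range_subtype]
    rw [← hZC, commutator_comm, hC]
    calc ⁅H.map T.subtype, T⁆ = ⁅H.map T.subtype, (⊤ : Subgroup T).map T.subtype⁆ := by rw [← he]
      _ = ⁅H, (⊤ : Subgroup T)⁆.map T.subtype := (map_commutator _ _ _).symm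
      _ ≤ _ := map_mono hH2
  have hC4 : T ⊓ centralizer (C : Set G) = C ⊓ centralizer (C : Set G) := by
    refine le_antisymm (fun x hx => ⟨?_, hx.2⟩) (inf_le_inf_right _ hCT)
    refine ⟨⟨x, hx.1⟩, hH3 (mem_centralizer_iff.2 fun h hh => Subtype.ext ?_), rfl⟩
    exact mem_centralizer_iff.1 hx.2 _ (mem_map_of_mem _ hh)
  set Z := C ⊓ centralizer (C : Set G) with hZ
  haveI hZn : Z.Normal := inferInstance
  set P := (S : Subgroup G) with hP
  haveI : Group.IsNilpotent P := S.2.isNilpotent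
  set Qs := T.subgroupOf P with hQs
  set Cs := C.subgroupOf P with hCs
  set Zs := Z.subgroupOf P with hZs
  have hex : ∃ B ∈ Cfsg.maxAbelianSubgroups P, ¬ B ≤ Qs := by
    by_contra hcon
    push Not at hcon
    exact hJ (normal_of_forall_le S hTS hcon)
  obtain ⟨B₀, hB₀, hB₀'⟩ := hex
  obtain ⟨A, ⟨hAm, hAQ⟩, hAmax⟩ := Set.exists_max_image
    {B : Subgroup P | B ∈ Cfsg.maxAbelianSubgroups P ∧ ¬ B ≤ Qs}
    (fun B => Nat.card ↥(B ⊓ Zs) * (Nat.card P + 1) + Nat.card ↥(B ⊓ Cs))
    (Set.toFinite _) ⟨B₀, hB₀, hB₀'⟩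
  have hlt : ∀ B : Subgroup P, Nat.card ↥(B ⊓ Cs) < Nat.card P + 1 := fun B =>
    Nat.lt_succ_of_le (card_le_card_group _)
  have hhost : Host A Qs Zs := by
    refine ⟨hAm, inferInstance, ?_, ?_, fun B hB hBQ => ?_⟩
    · intro x hx y hy
      exact Subtype.ext (mem_centralizer_iff.1 hy.2 _ hx.1)
    · exact comap_mono (inf_le_left.trans hCT)
    · by_contra hlt'
      have h1 := hAmax B ⟨hB, hBQ⟩
      have h2 := hlt A
      have h3 : (Nat.card ↥(A ⊓ Zs) + 1) * (Nat.card P + 1) ≤
          Nat.card ↥(B ⊓ Zs) * (Nat.card P + 1) := Nat.mul_le_mul_right _ (Nat.lt_of_not_le hlt')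
      rw [add_mul, one_mul] at h3
      omega
  have hodd : Odd (Nat.card P) := by
    obtain ⟨k, hk⟩ := IsPGroup.iff_card.1 S.2
    rw [hP, hk]
    exact ((Fact.out : p.Prime).odd_of_ne_two hp).pow
  have hhost2 : Host2 A Qs Zs Cs := by
    refine ⟨hhost, inferInstance, comap_mono hCT, ?_, fun u hu q hq => ?_, fun B hB hBQ hle => ?_, hodd⟩
    · refine le_antisymm ?_ ?_
      · rintro x ⟨hx, hx'⟩
        refine ⟨hx, mem_centralizer_iff.2 fun c hc => ?_⟩
        exact congrArg Subtype.val (mem_centralizer_iff.1 hx' ⟨c, hTS (hCT hc)⟩ hc)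
      · rintro x ⟨hx, hx'⟩
        exact ⟨hx, mem_centralizer_iff.2 fun c hc => Subtype.ext (mem_centralizer_iff.1 hx' _ hc)⟩
    · exact hC3 (by
        rw [commutator_comm]
        exact commutator_mem_commutator (H₁ := C) (H₂ := T) hu hq)
    · have h1 := hAmax B ⟨hB, hBQ⟩
      have h2 : Nat.card ↥(A ⊓ Zs) * (Nat.card P + 1) ≤ Nat.card ↥(B ⊓ Zs) * (Nat.card P + 1) :=
        Nat.mul_le_mul_right _ hle
      omega
  obtain ⟨a, ha, haQ⟩ := SetLike.not_le_iff_exists.1 hAQ
  have hiter : ∀ {U V : Subgroup G}, U ≤ P → ∀ n,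
      Cfsg.iterCommutator (U.subgroupOf P) (zpowers a) n ≤ V.subgroupOf P →
      Cfsg.iterCommutator U (zpowers (a : G)) n ≤ V := by
    intro U V hU n h
    have h' := map_mono (f := P.subtype) h
    rw [iterCommutator_map, map_subgroupOf_eq_of_le hU, MonoidHom.map_zpowers] at h'
    exact h'.trans (map_comap_le _ _)
  have hCP : C ≤ P := hCT.trans hTS
  have hZ3 : KillsBelow (a : G) 3 Z := by
    intro U V hUV hU
    haveI := hUV.2.1
    haveI := hUV.2.2.1
    have hUT : U ≤ T := hU.trans (inf_le_left.trans hCT)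
    have hUT' := commutator_le_of_chiefFactor hUV hTp hUT
    refine hiter (hUT.trans hTS) 3 (hhost.iterCommutator_le (comap_mono hU) ?_ ha)
    intro x hx q hq
    exact hUT' (commutator_mem_commutator (H₁ := U) (H₂ := T) hx hq)
  have hC4k : KillsBelow (a : G) 4 C :=
    killsBelow_step (N₀ := Z) (hiter hCP 4 (hhost2.iterCommutator_le ha))
      (killsBelow_mono (by norm_num) le_rfl hZ3)
  exact ⟨a, a.2, fun h => haQ h,
    killsBelow_of_critical (i := 4) (j := 3) hTp hCT hC3 hC4 _ (by norm_num) (by norm_num) hC4k hZ3⟩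

/-- For `p ≥ 7`, `J` controls transfer. -/
theorem transfer_thompsonA (hp : 7 ≤ p) :
    Cfsg.FamilyControlsTransferIn p (family G {fun Q [Group Q] => Cfsg.thompsonSubgroupA Q}) ⊤ := by
  set W : ∀ (Q : Type u) [Group Q], Subgroup Q := fun Q [Group Q] => Cfsg.thompsonSubgroupA Q
  have h𝓦 : ∀ V ∈ ({W} : Set (∀ (Q : Type u) [Group Q], Subgroup Q)), Cfsg.IsCharPFunctor.{u} p V :=
    fun V hV => by rw [Set.mem_singleton_iff] at hV; exact hV ▸ isCharPFunctor_thompsonA p
  refine transfer_of_bot_section h𝓦 ⊤ (transfer_of_constrained_aux h𝓦 (Set.singleton_nonempty W)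
    (fun K R _ _ S hnt hlast => ?_) ⊤ ⊥)
  obtain ⟨g, hgS, hgO, hg⟩ := exists_degree_six (by omega) S fun hn => hnt W rfl (by
    rw [normalizer_eq_top_iff]; exact hn)
  obtain ⟨X, V, hXV, hX, hne⟩ := hlast g hgS hgO
  exact absurd (killsBelow_mono (by omega) le_rfl hg X V hXV hX) hne

end CfsgLib.JDegree
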