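import Cfsg.Agent.Kinf.JDegree.Series
import Mathlib.GroupTheory.QuotientGroup.Basic

/-!
`[C, A, A, A, A] ≤ Z(C)`.
-/

set_option autoImplicit false
set_option linter.unusedSectionVars false
set_option linter.style.haveILetI false

namespace CfsgLib.JDegree

open Subgroup
open scoped commutatorElement

variable {P : Type*} [Group P] [Finite P] {A Q Z C : Subgroup P}

/-- The operators `u ↦ [u, c]` commute on `C` modulo `Z`. -/
theorem Host2.rev_four (h : Host2 A Q Z C) {u a b c e : P} (hu : u ∈ C) (ha : a ∈ A) (hb : b ∈ A)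
    (hc : c ∈ A) (he : e ∈ A) :
    ⁅⁅⁅⁅u, c⁆, e⁆, b⁆, a⁆⁻¹ * ⁅⁅⁅⁅u, a⁆, b⁆, e⁆, c⁆ ∈ Z := by
  haveI := h.host.normal
  haveI := h.normal
  set π := QuotientGroup.mk' Z with hπ
  haveI : (C.map π).Normal := h.normal.map π (QuotientGroup.mk'_surjective Z)
  have hN : Abl (C.map π) := by
    rintro _ ⟨x, hx, rfl⟩ _ ⟨y, hy, rfl⟩
    refine commutatorElement_eq_one_iff_commute.1 ?_
    rw [← map_commutatorElement]
    exact (QuotientGroup.eq_one_iff _).2 (h.comm_mem_z hx hy)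
  have hcm : ∀ {s t : P}, s ∈ A → t ∈ A → Commute (π s) (π t) := fun hs ht =>
    (abl_of_max h.host.max _ hs _ ht).map π
  have hm : ∀ {w : P ⧸ Z}, w ∈ C.map π → ∀ s : P, ⁅w, π s⁆ ∈ C.map π := fun hw s =>
    comm_mem_normal hw (π s)
  have hu' : π u ∈ C.map π := mem_map_of_mem π hu
  refine QuotientGroup.eq.1 ?_
  show π ⁅⁅⁅⁅u, c⁆, e⁆, b⁆, a⁆ = π ⁅⁅⁅⁅u, a⁆, b⁆, e⁆, c⁆
  simp only [map_commutatorElement]
  calc ⁅⁅⁅⁅π u, π c⁆, π e⁆, π b⁆, π a⁆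
      = ⁅⁅⁅⁅π u, π c⁆, π e⁆, π a⁆, π b⁆ := comm_comm hN (hm (hm hu' c) e) (hcm hb ha)
    _ = ⁅⁅⁅⁅π u, π c⁆, π a⁆, π e⁆, π b⁆ := by rw [comm_comm hN (hm hu' c) (hcm he ha)]
    _ = ⁅⁅⁅⁅π u, π a⁆, π c⁆, π e⁆, π b⁆ := by rw [comm_comm hN hu' (hcm hc ha)]
    _ = ⁅⁅⁅⁅π u, π a⁆, π c⁆, π b⁆, π e⁆ := comm_comm hN (hm (hm hu' a) c) (hcm he hb)
    _ = ⁅⁅⁅⁅π u, π a⁆, π b⁆, π c⁆, π e⁆ := by rw [comm_comm hN (hm hu' a) (hcm hc hb)]
    _ = ⁅⁅⁅⁅π u, π a⁆, π b⁆, π e⁆, π c⁆ := comm_comm hN (hm (hm hu' a) b) (hcm hc he)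

theorem Host2.comm_comm_mem (h : Host2 A Q Z C) {u : P} (hu : u ∈ C) (a b : P) : ⁅⁅u, a⁆, b⁆ ∈ C :=
  h.comm_mem (h.comm_mem hu a) b

/-- `[[u, a, b], t] ≡ [u, [t, b, a]]` modulo `A`, at depth four. -/
theorem Host2.move_two [Group.IsNilpotent P] (h : Host2 A Q Z C) (hd : wser A Z C 5 ≤ Z)
    {u t a b : P} (hu : u ∈ C) (ht : t ∈ wser A Z C 2) (ha : a ∈ A) (hb : b ∈ A) :
    ∃ α ∈ A, ⁅⁅⁅u, a⁆, b⁆, t⁆ = α * ⁅u, ⁅⁅t, b⁆, a⁆⁆ := by
  have hu0 : u ∈ wser A Z C 0 := hu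
  have hu1 := comm_mem_wser (c := a) hu0 ha
  have hu2 := comm_mem_wser (c := b) hu1 hb
  have ht3 := comm_mem_wser (c := b) ht hb
  have ht4 := comm_mem_wser (c := a) ht3 ha
  have htC := h.wser_le 2 ht
  have ht3C := h.wser_le 3 ht3
  rw [h.transfer (h.comm_mem hu a) htC b, h.transfer hu ht3C a]
  set W1 := ⁅⁅⁅u, a⁆, t⁆, b⁆
  set S1 := ⁅⁅⁅u, a⁆, b⁆, ⁅t, b⁆⁆
  set W2 := ⁅⁅u, ⁅t, b⁆⁆, a⁆
  set S2 := ⁅⁅u, a⁆, ⁅⁅t, b⁆, a⁆⁆
  set F := ⁅u, ⁅⁅t, b⁆, a⁆⁆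
  have hW1 : W1 ∈ A := h.pair_comm_fix (h.comm_mem hu a) htC hb
  have hS1 : S1 ∈ A := h.pair_mem hd (le_refl 5) hu2 ht3
  have hW2 : W2 ∈ A := h.pair_comm_fix hu ht3C ha
  have hS2 : S2 ∈ A := h.pair_mem hd (le_refl 5) hu1 ht4
  have hS2Z : S2 ∈ Z := h.comm_mem_z (h.comm_mem hu a) (h.wser_le 4 ht4)
  haveI := h.host.normal
  have hW2Z : W2 ∈ Z := comm_mem_normal (h.comm_mem_z hu ht3C) a
  have hFZ : F ∈ Z := h.comm_mem_z hu (h.wser_le 4 ht4)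
  refine ⟨W1 * S1 * (W2 * S2)⁻¹, mul_mem (mul_mem hW1 hS1) (inv_mem (mul_mem hW2 hS2)), ?_⟩
  rw [show (W2 * S2 * F⁻¹)⁻¹ = F * (W2 * S2)⁻¹ by group,
    (h.host.abl F hFZ _ (inv_mem (mul_mem hW2Z hS2Z))).eq]
  group

/-- Depth four pairs into `A`. -/
theorem Host2.four_mem [Group.IsNilpotent P] (h : Host2 A Q Z C) (hd : wser A Z C 5 ≤ Z)
    {u a b c e : P} (hu : u ∈ C) (ha : a ∈ A) (hb : b ∈ A) (hc : c ∈ A) (he : e ∈ A) :
    ⁅u, ⁅⁅⁅⁅u, c⁆, e⁆, b⁆, a⁆⁆ ∈ A := by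
  haveI := h.host.normal
  have hu0 : u ∈ wser A Z C 0 := hu
  have h2 : ∀ {s t : P}, s ∈ A → t ∈ A → ⁅⁅u, s⁆, t⁆ ∈ wser A Z C 2 := fun hs ht =>
    comm_mem_wser (comm_mem_wser hu0 hs) ht
  obtain ⟨α, hα, e1⟩ := h.move_two hd hu (h2 hc he) ha hb
  obtain ⟨β, hβ, e2⟩ := h.move_two hd hu (h2 ha hb) hc he
  set V := ⁅⁅⁅⁅u, c⁆, e⁆, b⁆, a⁆
  set V' := ⁅⁅⁅⁅u, a⁆, b⁆, e⁆, c⁆
  have hV : V ∈ C := h.comm_comm_mem (h.comm_comm_mem hu c e) b a
  have hFeq : ⁅u, V'⁆ = ⁅u, V⁆ := by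
    have hz := h.rev_four hu ha hb hc he
    rw [show V' = V * (V⁻¹ * V') by group, h.pair_mul_right hu hV (h.z_le hz),
      h.pair_eq_one_of_right hu hz, mul_one]
  rw [hFeq] at e2
  have e3 : ⁅⁅⁅u, c⁆, e⁆, ⁅⁅u, a⁆, b⁆⁆ = ⁅⁅⁅u, a⁆, b⁆, ⁅⁅u, c⁆, e⁆⁆⁻¹ :=
    (commutatorElement_inv _ _).symm
  rw [e2, e1, mul_inv_rev] at e3
  refine h.mem_of_sq ?_
  have e4 : ⁅u, V⁆ * β * ⁅u, V⁆ = α⁻¹ := by
    calc ⁅u, V⁆ * β * ⁅u, V⁆ = ⁅u, V⁆ * (⁅u, V⁆⁻¹ * α⁻¹) := by rw [mul_assoc, e3]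
      _ = α⁻¹ := by group
  have hFC : ⁅u, V⁆ ∈ Z := h.comm_mem_z hu hV
  have hFb : Commute β ⁅u, V⁆ := by
    -- `β` lies in `Z`, being a quotient of two elements of `Z`
    have hβZ : β ∈ Z := by
      rw [show β = ⁅⁅⁅u, c⁆, e⁆, ⁅⁅u, a⁆, b⁆⁆ * ⁅u, V⁆⁻¹ by rw [e2]; group]
      exact mul_mem (h.comm_mem_z (h.comm_comm_mem hu c e) (h.comm_comm_mem hu a b)) (inv_mem hFC)
    exact h.host.abl β hβZ _ hFC
  rw [show ⁅u, V⁆ * ⁅u, V⁆ = β⁻¹ * α⁻¹ by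
    rw [← e4, ← hFb.eq]; group]
  exact mul_mem (inv_mem hβ) (inv_mem hα)

/-- At depth five, `[u, q, p]` commutes with its commutators with `A`. -/
theorem Host2.five_commute [Group.IsNilpotent P] (h : Host2 A Q Z C) (hd : wser A Z C 5 ≤ Z)
    {u q p c : P} (hu : u ∈ C) (hq : q ∈ A) (hp : p ∈ A) (hc : c ∈ A) :
    ⁅⁅⁅u, q⁆, p⁆, ⁅⁅⁅u, q⁆, p⁆, c⁆⁆ = 1 := by
  have hu0 : u ∈ wser A Z C 0 := hu
  have hv := comm_mem_wser (c := q) hu0 hq
  have hx := comm_mem_wser (c := p) hv hp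
  have hy := comm_mem_wser (c := c) hx hc
  set v := ⁅u, q⁆
  set x := ⁅v, p⁆
  set y := ⁅x, c⁆
  have hyC := h.wser_le 3 hy
  have hvC := h.wser_le 1 hv
  have hy4 := comm_mem_wser (c := p) hy hp
  have hy4' := comm_mem_wser (c := q) hy hq
  have hA := h.host.max
  rw [h.transfer hvC hyC p,
    h.pair_eq_one hd (le_refl 6) hx hy4]
  -- `[v, y] ∈ A`
  have hvy : ⁅v, y⁆ ∈ A := by
    show ⁅⁅u, q⁆, y⁆ ∈ A
    rw [h.transfer hu hyC q]
    refine mul_mem (mul_mem (h.pair_comm_fix hu hyC hq) (h.pair_mem hd (le_refl 5) hv hy4'))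
      (inv_mem ?_)
    exact h.four_mem hd hu hq hc hq hp
  -- `[v, [y, p]] = 1`
  have hvy4 : ⁅v, ⁅y, p⁆⁆ = 1 := by
    show ⁅⁅u, q⁆, ⁅y, p⁆⁆ = 1
    have hy5 := comm_mem_wser (c := q) hy4 hq
    rw [h.transfer hu (h.wser_le 4 hy4) q, h.pair_eq_one_of_right (h.comm_mem hu q) (hd hy5),
      h.pair_eq_one_of_right hu (hd hy5),
      comm_eq_one_of_mem hA (h.four_mem hd hu hp hc hq hp) hq]
    simp
  rw [comm_eq_one_of_mem hA hvy hp, hvy4]
  simp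

theorem Host2.comm_k (h : Host2 A Q Z C) {w c k : P} (hw : w ∈ C) (hc : c ∈ A) (hk : k ∈ A)
    (hkQ : k ∈ Q) : ⁅⁅w, c⁆, k⁆ = ⁅⁅w, k⁆, c⁆ := by
  haveI := h.host.normal
  haveI := h.normal
  have hwk := h.comm w hw k hkQ
  set z := ⁅w, k⁆ with hz
  set w' := c * w⁻¹ * c⁻¹ with hw'
  have hw'C : w' ∈ C := h.normal.conj_mem _ (inv_mem hw) c
  have e1 : ⁅w, c⁆ = w * w' := by rw [hw', commutatorElement_def]; group
  have e2 : ⁅w', k⁆ = c * ⁅w⁻¹, k⁆ * c⁻¹ := by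
    have hck := (abl_of_max h.host.max c hc k hk).eq
    rw [show c * ⁅w⁻¹, k⁆ * c⁻¹ = ⁅w', c * k * c⁻¹⁆ by
      rw [hw']; simp only [commutatorElement_def]; group]
    rw [hck]; group
  have e3 : ⁅w⁻¹, k⁆ = z⁻¹ := by
    have := comm_mul_left w⁻¹ w k
    rw [inv_mul_cancel, commutatorElement_one_left, ← hz, ← (h.central hwk (inv_mem hw)).eq] at this
    exact eq_inv_of_mul_eq_one_right (by simpa using this.symm)
  have hzw : ⁅w', k⁆ ∈ Z := h.comm w' hw'C k hkQ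
  rw [e1, comm_mul_left, ← (h.central hzw hw).eq, e2, e3, ← hz]
  rw [show c * z⁻¹ * c⁻¹ * w * w⁻¹ = c * z⁻¹ * c⁻¹ by group,
    (h.host.abl _ (h.host.normal.conj_mem _ (inv_mem hwk) c) z hwk).eq, commutatorElement_def]
  group

/-- **The step**: `W (n + 5) ≤ Z` forces `W (n + 4) ≤ Z`. -/
theorem Host2.wser_step [Group.IsNilpotent P] (h : Host2 A Q Z C) {n : ℕ}
    (hd : wser A Z C (n + 5) ≤ Z) : wser A Z C (n + 4) ≤ Z := by
  classical
  haveI := h.host.normal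
  set T1 := preC h Z le_rfl
  set T2 := preC h T1 (le_preC h Z le_rfl)
  set T3 := preC h T2 (le_preC h T1 _)
  suffices hmain : ∀ u ∈ wser A Z C n, ∀ q ∈ A, ∀ p ∈ A, ∀ c ∈ A, ∀ c' ∈ A,
      ⁅⁅⁅⁅u, q⁆, p⁆, c⁆, c'⁆ ∈ Z by
    have hC : ∀ {m : ℕ} {u : P}, u ∈ wser A Z C m → ∀ q : P, ⁅u, q⁆ ∈ C := fun hu q =>
      h.comm_mem (h.wser_le _ hu) q
    have s1 : wser A Z C (n + 1) ≤ T3 := wser_succ_le_of (le_preC h T2 _) fun u hu q hq =>
      ⟨hC hu q, fun p hp => ⟨h.comm_mem (hC hu q) p, fun c hc =>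
        ⟨h.comm_mem (h.comm_mem (hC hu q) p) c, fun c' hc' => hmain u hu q hq p hp c hc c' hc'⟩⟩⟩
    have s2 : wser A Z C (n + 2) ≤ T2 :=
      wser_succ_le_of (le_preC h T1 _) fun u hu q hq => (s1 hu).2 q hq
    have s3 : wser A Z C (n + 3) ≤ T1 :=
      wser_succ_le_of (le_preC h Z _) fun u hu q hq => (s2 hu).2 q hq
    exact wser_succ_le_of le_rfl fun u hu q hq => (s3 hu).2 q hq
  intro u hu q hq p hp c hc c' hc'
  have huC := h.wser_le n hu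
  have hv := comm_mem_wser (c := q) hu hq
  have hxW := comm_mem_wser (c := p) hv hp
  set x := ⁅⁅u, q⁆, p⁆ with hxdef
  have hxC := h.wser_le _ hxW
  have hA := h.host.max
  set M := cycl A x with hMdef
  have hMW : M ≤ wser A Z C (n + 3) := cycl_le fun a ha => comm_mem_wser hxW ha
  have hMC : M ≤ C := hMW.trans (h.wser_le _)
  have hM : Abl M := fun s hs t ht => commutatorElement_eq_one_iff_commute.1
    (h.pair_eq_one hd (by omega) (hMW hs) (hMW ht))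
  have hxk : ∀ k ∈ A, k ∈ Q → ⁅x, k⁆ = ⁅⁅⁅u, k⁆, q⁆, p⁆ := fun k hk hkQ => by
    rw [hxdef, h.comm_k (h.comm_mem huC q) hp hk hkQ, h.comm_k huC hq hk hkQ]
  obtain ⟨R, hR, htop⟩ := h.host.exists_isFull_top
  have hcR : ∀ s ∈ M, ∀ t ∈ R, Commute s t := fun s hs t ht => (h.central (hR.1 ht) (hMC hs)).symm
  have hRab : Abl R := h.host.abl.mono hR.1
  by_cases hK : A ⊓ centralizer (R : Set P) ≤ Q
  · -- `C_A(R)` centralizes `[x, A]`
    have hKM : A ⊓ centralizer (R : Set P) ≤ centralizer (M : Set P) := by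
      rintro k ⟨hk, hkR⟩
      have hkQ := hK ⟨hk, hkR⟩
      refine mem_centralizer_cycl hA hk ?_ hM
      rw [hxk k hk hkQ]
      set z := ⁅u, k⁆ with hzdef
      have hz : z ∈ Z := h.comm u huC k hkQ
      rcases h.host.triple hz hq hp with h1 | ⟨b, hb, hbQ, s, hs, e⟩
      · exact mem_of_commute hA fun w hw => commutatorElement_eq_one_iff_commute.1 (h1 w hw)
      · rw [e]
        refine mul_mem ?_ hs
        have hw : ⁅u, b⁆ ∈ Z := h.comm u huC b hbQ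
        rw [hzdef, ← h.comm_k huC hb hk hkQ]
        exact comm_mem_of_centralizer hA hk (h.host.abl.mono (h.host.cycl_le hw))
          (centralizer_le (htop _ hw) hkR)
    have hS : Abl (M ⊔ R) := abl_sup hM hRab hcR
    set S := M ⊔ R with hSdef
    have hsub : A ⊓ centralizer (R : Set P) ≤ A ⊓ centralizer (S : Set P) := by
      rintro k hk
      refine ⟨hk.1, ?_⟩
      rw [hSdef, Subgroup.sup_eq_closure, centralizer_closure]
      refine mem_centralizer_iff.2 ?_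
      rintro w (hw | hw)
      · exact mem_centralizer_iff.1 (hKM hk) w hw
      · exact mem_centralizer_iff.1 hk.2 w hw
    have hc2 : ∀ s ∈ R, ∀ t ∈ A ⊓ S, Commute s t := fun s hs t ht =>
      hS s (le_sup_right (b := R) hs) t ht.2
    have hinf : R ⊓ (A ⊓ S) = A ⊓ Z :=
      le_antisymm (le_inf (inf_le_right.trans inf_le_left) (inf_le_left.trans hR.1))
        (le_inf hR.2.1 (le_inf inf_le_left (hR.2.1.trans le_sup_right)))
    have hsup : R ⊔ (A ⊓ S) = S := by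
      refine sup_eq_of_card hc2 le_sup_right inf_le_right ?_
      rw [hinf]
      refine Nat.le_of_mul_le_mul_right ?_
        (Nat.card_pos (α := ↥(A ⊓ centralizer (R : Set P))))
      calc Nat.card S * Nat.card ↥(A ⊓ Z) * Nat.card ↥(A ⊓ centralizer (R : Set P))
          = Nat.card ↥(A ⊓ Z) * (Nat.card S * Nat.card ↥(A ⊓ centralizer (R : Set P))) := by ring
        _ ≤ Nat.card ↥(A ⊓ Z) * (Nat.card S * Nat.card ↥(A ⊓ centralizer (S : Set P))) :=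
            Nat.mul_le_mul_left _ (Nat.mul_le_mul_left _
              (Nat.card_le_card_of_injective _ (inclusion_injective hsub)))
        _ ≤ Nat.card ↥(A ⊓ Z) * (Nat.card A * Nat.card ↥(A ⊓ S)) :=
            Nat.mul_le_mul_left _ (card_mul_card_cent_le hA hS)
        _ = (Nat.card A * Nat.card ↥(A ⊓ Z)) * Nat.card ↥(A ⊓ S) := by ring
        _ ≤ (Nat.card R * Nat.card ↥(A ⊓ centralizer (R : Set P))) * Nat.card ↥(A ⊓ S) :=
            Nat.mul_le_mul_right _ hR.2.2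
        _ = _ := by ring
    obtain ⟨z, hz, s, hs, e⟩ := exists_mul_of_mem_sup hc2
      (hsup.ge ((le_sup_left : M ≤ S) (comm_mem_cycl x hc)))
    rw [e, comm_mul_of_mem hA hs.1 hc']
    exact comm_mem_normal (hR.1 hz) c'
  · -- `R ≤ A`, and `A` acts quadratically on `Z`
    have hcC : ∀ s ∈ R, ∀ t ∈ A ⊓ centralizer (R : Set P), Commute s t := fun s hs t ht =>
      commute_of_mem_centralizer ht.2 hs
    have hinf : R ⊓ (A ⊓ centralizer (R : Set P)) = A ⊓ Z :=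
      le_antisymm (le_inf (inf_le_right.trans inf_le_left) (inf_le_left.trans hR.1))
        (le_inf hR.2.1 (le_inf inf_le_left ((hR.2.1.trans hRab.le_centralizer))))
    have hcard : Nat.card A ≤ Nat.card ↥(R ⊔ (A ⊓ centralizer (R : Set P))) := by
      refine Nat.le_of_mul_le_mul_right ?_ (Nat.card_pos (α := ↥(A ⊓ Z)))
      refine hR.2.2.trans (le_of_eq ?_)
      rw [← card_sup hcC, hinf]
    have hm := h.host.meas _
      (mem_max hA (abl_sup hRab ((abl_of_max hA).mono inf_le_left) hcC) hcard)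
      fun hle => hK (le_sup_right.trans hle)
    have hReq : A ⊓ Z = R := by
      refine le_antisymm hR.2.1 ?_
      refine (le_inf le_sup_left hR.1).trans (eq_of_le_of_card_ge ?_ hm).ge
      exact le_inf (hR.2.1.trans le_sup_left) inf_le_right
    have hquad : ∀ w ∈ Z, ∀ a ∈ A, ∀ b ∈ A, ⁅⁅w, a⁆, b⁆ = 1 := fun w hw a ha b hb =>
      comm_eq_one_of_mem hA (hReq.ge (htop w hw (comm_mem_cycl w ha))).1 hb
    have hxk1 : ∀ k ∈ A, k ∈ Q → ⁅x, k⁆ = 1 := fun k hk hkQ => by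
      rw [hxk k hk hkQ]; exact hquad _ (h.comm u huC k hkQ) q hq p hp
    by_cases hMA : M ≤ A
    · rw [comm_eq_one_of_mem hA (hMA (comm_mem_cycl x hc)) hc']; exact one_mem Z
    exfalso
    -- `C_A([x, A]) ≤ Q`
    set CM := A ⊓ centralizer (M : Set P)
    have hcM : ∀ s ∈ M, ∀ t ∈ CM, Commute s t := fun s hs t ht => commute_of_mem_centralizer ht.2 hs
    have hinfM : M ⊓ CM = A ⊓ M :=
      le_antisymm (le_inf (inf_le_right.trans inf_le_left) inf_le_left)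
        (le_inf inf_le_right (le_inf inf_le_left (inf_le_right.trans hM.le_centralizer)))
    have hCMQ : CM ≤ Q := by
      by_contra hCMQ
      have hcardM : Nat.card A ≤ Nat.card ↥(M ⊔ CM) := by
        refine Nat.le_of_mul_le_mul_right ?_ (Nat.card_pos (α := ↥(A ⊓ M)))
        rw [(cycl_full hA hM).1, ← card_sup hcM, hinfM]
      have hAC : A ⊓ C ≤ CM := fun k hk => ⟨hk.1, mem_centralizer_cycl hA hk.1
        (by rw [hxk1 k hk.1 (h.le hk.2)]; exact one_mem A) hM⟩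
      have hAZ : A ⊓ Z ≤ (M ⊔ CM) ⊓ Z :=
        le_inf (((inf_le_inf_left A h.z_le).trans hAC).trans le_sup_right) inf_le_right
      have hm2 := h.meas _ (mem_max hA (abl_sup hM ((abl_of_max hA).mono inf_le_left) hcM) hcardM)
        (fun hle => hCMQ (le_sup_right.trans hle))
        (Nat.card_le_card_of_injective _ (inclusion_injective hAZ))
      have heq : A ⊓ C = (M ⊔ CM) ⊓ C :=
        eq_of_le_of_card_ge (le_inf (hAC.trans le_sup_right) inf_le_right) hm2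
      exact hMA fun s hs => (heq.ge ⟨(le_sup_left : M ≤ _) hs, hMC hs⟩).1
    have hxM : M ≤ pairPre h hxC ⊥ := cycl_le fun a ha => by
      refine ⟨h.comm_mem hxC a, mem_bot.2 ?_⟩
      rw [← commutatorElement_inv, inv_eq_one]
      rcases Nat.eq_zero_or_pos n with rfl | hn
      · exact h.five_commute hd huC hq hp ha
      · exact h.pair_eq_one hd (by omega) hxW (comm_mem_wser hxW ha)
    have hbot := cycl_eq_bot_of_commute hA hM
      (fun m hm => (commutatorElement_eq_one_iff_commute.1 (mem_bot.1 (hxM hm).2)).symm)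
      (fun k hk hkC => commutatorElement_eq_one_iff_commute.1 (hxk1 k hk (hCMQ ⟨hk, hkC⟩)))
    exact hMA (hbot.le.trans bot_le)

/-- **The class-two theorem.** -/
theorem Host2.wser_four_le [Group.IsNilpotent P] (h : Host2 A Q Z C) : wser A Z C 4 ≤ Z := by
  obtain ⟨d, hd⟩ := h.exists_wser_le
  induction d with
  | zero => exact (h.wser_antitone (Nat.zero_le 4)).trans hd
  | succ d ih =>
    rcases Nat.lt_or_ge d 4 with hlt | hge
    · exact (h.wser_antitone (by omega : d + 1 ≤ 4)).trans hd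
    · obtain ⟨m, rfl⟩ := Nat.exists_eq_add_of_le hge
      exact ih (by
        rw [show 4 + m = m + 4 by omega]
        exact h.wser_step (n := m) (by rwa [show m + 5 = 4 + m + 1 by omega]))

/-- `[C, a, a, a, a] ≤ Z`. -/
theorem Host2.iterCommutator_le [Group.IsNilpotent P] (h : Host2 A Q Z C) {a : P} (ha : a ∈ A) :
    Cfsg.iterCommutator C (zpowers a) 4 ≤ Z := by
  have key : ∀ k, Cfsg.iterCommutator C (zpowers a) k ≤ wser A Z C k := by
    intro k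
    induction k with
    | zero => exact le_rfl
    | succ k ih => exact (commutator_mono ih (zpowers_le.2 ha)).trans le_sup_left
  exact (key 4).trans h.wser_four_le

end CfsgLib.JDegree
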