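import Cfsg.Prelude.Def_PLocal
import Cfsg.Agent.Solvable.Basics

/-!
Abelian subgroups of largest order: the subgroup `[x, A]`, the inequality
`|R| |C_A(R)| ≤ |A| |A ∩ R|` and the subgroups attaining it.
-/

set_option autoImplicit false
set_option linter.unusedSectionVars false
set_option linter.style.haveILetI false

namespace CfsgLib.JDegree

open Subgroup
open scoped commutatorElement

variable {P : Type*} [Group P] [Finite P]

theorem comm_mul_right (x a b : P) : ⁅x, a * b⁆ = ⁅x, a⁆ * (a * ⁅x, b⁆ * a⁻¹) := by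
  simp only [commutatorElement_def]; group

theorem comm_mul_left (x y c : P) : ⁅x * y, c⁆ = x * ⁅y, c⁆ * x⁻¹ * ⁅x, c⁆ := by
  simp only [commutatorElement_def]; group

/-- The subgroup generated by the `[x, a]`, `a ∈ A`. -/
def cycl (A : Subgroup P) (x : P) : Subgroup P :=
  closure (Set.range fun a : A => ⁅x, (a : P)⁆)

theorem comm_mem_cycl {A : Subgroup P} (x : P) {a : P} (ha : a ∈ A) : ⁅x, a⁆ ∈ cycl A x :=
  subset_closure ⟨⟨a, ha⟩, rfl⟩

theorem cycl_le {A K : Subgroup P} {x : P} (h : ∀ a ∈ A, ⁅x, a⁆ ∈ K) : cycl A x ≤ K := by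
  rw [cycl, closure_le]
  rintro _ ⟨a, rfl⟩
  exact h a a.2

theorem le_normalizer_cycl {A : Subgroup P} (x : P) : A ≤ normalizer (cycl A x : Set P) := by
  intro a ha
  refine Subgroup.mem_normalizer_fintype (fun m hm => ?_)
  induction hm using Subgroup.closure_induction with
  | mem m hm =>
    obtain ⟨b, rfl⟩ := hm
    have e : a * ⁅x, (b : P)⁆ * a⁻¹ = ⁅x, a⁆⁻¹ * ⁅x, a * b⁆ := by rw [comm_mul_right]; group
    show a * ⁅x, (b : P)⁆ * a⁻¹ ∈ _
    rw [e]
    exact mul_mem (inv_mem (comm_mem_cycl x ha)) (comm_mem_cycl x (mul_mem ha b.2))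
  | one => simp
  | mul u v _ _ hu hv =>
    have := mul_mem hu hv
    simpa [mul_assoc] using this
  | inv u _ hu =>
    have := inv_mem hu
    simpa [mul_assoc] using this

theorem comm_cycl_mem {A : Subgroup P} {x m a : P} (hm : m ∈ cycl A x) (ha : a ∈ A) :
    ⁅m, a⁆ ∈ cycl A x := by
  rw [show ⁅m, a⁆ = m * (a * m⁻¹ * a⁻¹) by simp only [commutatorElement_def]; group]
  exact mul_mem hm ((mem_normalizer_iff.1 (le_normalizer_cycl x ha) _).1 (inv_mem hm))

/-- Commutative subgroups, elementwise. -/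
def Abl (R : Subgroup P) : Prop := ∀ x ∈ R, ∀ y ∈ R, Commute x y

theorem Abl.mono {R R' : Subgroup P} (h : Abl R) (hle : R' ≤ R) : Abl R' :=
  fun x hx y hy => h x (hle hx) y (hle hy)

theorem Abl.le_centralizer {R : Subgroup P} (h : Abl R) : R ≤ centralizer (R : Set P) :=
  fun x hx => mem_centralizer_iff.2 fun y hy => (h y hy x hx).eq

theorem abl_closure {k : Set P} (h : ∀ x ∈ k, ∀ y ∈ k, Commute x y) : Abl (closure k) := by
  intro x hx y hy
  haveI := isMulCommutative_closure (k := k) (fun a ha b hb => h a ha b hb)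
  exact congrArg Subtype.val (mul_comm' (⟨x, hx⟩ : closure k) ⟨y, hy⟩)

theorem abl_sup {R R' : Subgroup P} (h : Abl R) (h' : Abl R')
    (hc : ∀ x ∈ R, ∀ y ∈ R', Commute x y) : Abl (R ⊔ R') := by
  rw [Subgroup.sup_eq_closure]
  refine abl_closure ?_
  rintro x (hx | hx) y (hy | hy)
  exacts [h x hx y hy, hc x hx y hy, (hc y hy x hx).symm, h' x hx y hy]

theorem commute_of_mem_centralizer {R : Subgroup P} {x y : P} (hx : x ∈ centralizer (R : Set P))
    (hy : y ∈ R) : Commute y x :=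
  mem_centralizer_iff.1 hx y hy

theorem le_normalizer_of_commute {U V : Subgroup P} (h : ∀ x ∈ U, ∀ y ∈ V, Commute x y) :
    U ≤ normalizer (V : Set P) := by
  intro x hx
  refine Subgroup.mem_normalizer_fintype fun y hy => ?_
  rwa [show x * y * x⁻¹ = y by rw [(h x hx y hy).eq]; group]

theorem card_sup {U V : Subgroup P} (h : ∀ x ∈ U, ∀ y ∈ V, Commute x y) :
    Nat.card ↥(U ⊔ V) * Nat.card ↥(U ⊓ V) = Nat.card U * Nat.card V :=
  Solvable.card_sup_mul_card_inf (le_normalizer_of_commute h)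

/-- Two commuting subgroups of a third one fill it up as soon as the orders allow it. -/
theorem sup_eq_of_card {U V R : Subgroup P} (h : ∀ x ∈ U, ∀ y ∈ V, Commute x y) (hU : U ≤ R)
    (hV : V ≤ R) (hc : Nat.card R * Nat.card ↥(U ⊓ V) ≤ Nat.card U * Nat.card V) : U ⊔ V = R := by
  refine eq_of_le_of_card_ge (sup_le hU hV) ?_
  rw [← card_sup h] at hc
  exact Nat.le_of_mul_le_mul_right hc Nat.card_pos

theorem exists_mul_of_mem_sup {U V : Subgroup P} (h : ∀ x ∈ U, ∀ y ∈ V, Commute x y) {z : P}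
    (hz : z ∈ U ⊔ V) : ∃ u ∈ U, ∃ v ∈ V, z = u * v := by
  rw [← SetLike.mem_coe, coe_mul_of_left_le_normalizer_right U V (le_normalizer_of_commute h)] at hz
  obtain ⟨u, hu, v, hv, rfl⟩ := Set.mem_mul.1 hz
  exact ⟨u, hu, v, hv, rfl⟩

variable {A : Subgroup P}

theorem abl_of_max (hA : A ∈ Cfsg.maxAbelianSubgroups P) : Abl A := fun x hx y hy => by
  haveI := hA.1
  exact congrArg Subtype.val (mul_comm' (⟨x, hx⟩ : A) ⟨y, hy⟩)

theorem isMulCommutative_of_abl {R : Subgroup P} (h : Abl R) : IsMulCommutative R :=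
  ⟨⟨fun x y => Subtype.ext (h x x.2 y y.2).eq⟩⟩

theorem card_le_of_abl (hA : A ∈ Cfsg.maxAbelianSubgroups P) {R : Subgroup P} (h : Abl R) :
    Nat.card R ≤ Nat.card A :=
  hA.2 R (isMulCommutative_of_abl h)

theorem mem_max (hA : A ∈ Cfsg.maxAbelianSubgroups P) {R : Subgroup P} (h : Abl R)
    (hc : Nat.card A ≤ Nat.card R) : R ∈ Cfsg.maxAbelianSubgroups P :=
  ⟨isMulCommutative_of_abl h, fun B hB => (hA.2 B hB).trans hc⟩

/-- An abelian subgroup of largest order is self-centralizing. -/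
theorem mem_of_commute (hA : A ∈ Cfsg.maxAbelianSubgroups P) {x : P} (h : ∀ a ∈ A, Commute x a) :
    x ∈ A := by
  have hab : Abl (A ⊔ zpowers x) := abl_sup (abl_of_max hA)
    (fun u hu v hv => by
      obtain ⟨m, rfl⟩ := mem_zpowers_iff.1 hu
      obtain ⟨n, rfl⟩ := mem_zpowers_iff.1 hv
      exact Commute.zpow_zpow_self x m n)
    (fun a ha v hv => by
      obtain ⟨n, rfl⟩ := mem_zpowers_iff.1 hv
      exact ((h a ha).zpow_left n).symm)
  have := eq_of_le_of_card_ge (le_sup_left : A ≤ A ⊔ zpowers x) (card_le_of_abl hA hab)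
  rw [this]
  exact (le_sup_right : zpowers x ≤ _) (mem_zpowers x)

theorem comm_eq_one_of_mem (hA : A ∈ Cfsg.maxAbelianSubgroups P) {s a : P} (hs : s ∈ A)
    (ha : a ∈ A) : ⁅s, a⁆ = 1 :=
  commutatorElement_eq_one_iff_commute.2 (abl_of_max hA s hs a ha)

theorem mem_iff_comm_eq_one (hA : A ∈ Cfsg.maxAbelianSubgroups P) {x : P} :
    x ∈ A ↔ ∀ a ∈ A, ⁅x, a⁆ = 1 :=
  ⟨fun hx _ ha => comm_eq_one_of_mem hA hx ha,
    fun h => mem_of_commute hA fun a ha => commutatorElement_eq_one_iff_commute.1 (h a ha)⟩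

theorem comm_mul_of_mem (hA : A ∈ Cfsg.maxAbelianSubgroups P) {m s a : P} (hs : s ∈ A) (ha : a ∈ A) :
    ⁅m * s, a⁆ = ⁅m, a⁆ := by
  rw [comm_mul_left, comm_eq_one_of_mem hA hs ha]
  group

/-- **The inequality.** -/
theorem card_mul_card_cent_le (hA : A ∈ Cfsg.maxAbelianSubgroups P) {R : Subgroup P} (hR : Abl R) :
    Nat.card R * Nat.card ↥(A ⊓ centralizer (R : Set P)) ≤
      Nat.card A * Nat.card ↥(A ⊓ R) := by
  set C := A ⊓ centralizer (R : Set P) with hC
  have hc : ∀ x ∈ R, ∀ y ∈ C, Commute x y := fun x hx y hy => commute_of_mem_centralizer hy.2 hx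
  have hinf : R ⊓ C = A ⊓ R :=
    le_antisymm (le_inf (inf_le_right.trans inf_le_left) inf_le_left)
      (le_inf inf_le_right (le_inf inf_le_left (inf_le_right.trans hR.le_centralizer)))
  rw [← card_sup hc, hinf]
  exact Nat.mul_le_mul_right _
    (card_le_of_abl hA (abl_sup hR ((abl_of_max hA).mono inf_le_left) hc))

/-- If `[x, c] ∈ A` then `c` centralizes the abelian `[x, A]`. -/
theorem mem_centralizer_cycl (hA : A ∈ Cfsg.maxAbelianSubgroups P) {x c : P}
    (hc : c ∈ A) (hxc : ⁅x, c⁆ ∈ A) (hM : Abl (cycl A x)) :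
    c ∈ centralizer (cycl A x : Set P) := by
  rw [cycl, centralizer_closure]
  refine mem_centralizer_iff.2 ?_
  rintro _ ⟨⟨a, ha⟩, rfl⟩
  have e1 : ⁅x, a * c⁆ = ⁅x, a⁆ * ⁅x, c⁆ := by
    rw [comm_mul_right, (abl_of_max hA a ha _ hxc).eq]; group
  rw [(abl_of_max hA a ha c hc).eq, comm_mul_right] at e1
  have e2 : ⁅x, c⁆ * (c * ⁅x, a⁆ * c⁻¹) = ⁅x, c⁆ * ⁅x, a⁆ := by
    rw [e1]; exact (hM _ (comm_mem_cycl x ha) _ (comm_mem_cycl x hc)).eq
  have e3 := mul_left_cancel e2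
  show ⁅x, a⁆ * c = c * ⁅x, a⁆
  exact (mul_inv_eq_iff_eq_mul.1 e3).symm

/-- If `c ∈ A` centralizes `[x, A]` then `[x, c] ∈ A`. -/
theorem comm_mem_of_centralizer (hA : A ∈ Cfsg.maxAbelianSubgroups P) {x c : P} (hc : c ∈ A)
    (hM : Abl (cycl A x)) (hcC : c ∈ centralizer (cycl A x : Set P)) : ⁅x, c⁆ ∈ A := by
  refine mem_of_commute hA fun a ha => ?_
  have h := congrArg (fun g => ⁅x, g⁆) (abl_of_max hA a ha c hc).eq
  simp only [comm_mul_right] at h
  have hca : c * ⁅x, a⁆ * c⁻¹ = ⁅x, a⁆ := by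
    rw [← mem_centralizer_iff.1 hcC _ (comm_mem_cycl x ha)]; group
  rw [hca, (hM _ (comm_mem_cycl x hc) _ (comm_mem_cycl x ha)).eq] at h
  have := mul_left_cancel h
  exact ((show a * ⁅x, c⁆ = ⁅x, c⁆ * a from mul_inv_eq_iff_eq_mul.1 this)).symm

/-- `[x, A]`, when abelian, attains the bound and consists of single commutators modulo `A`. -/
theorem cycl_full (hA : A ∈ Cfsg.maxAbelianSubgroups P) {x : P} (hM : Abl (cycl A x)) :
    Nat.card A * Nat.card ↥(A ⊓ cycl A x) =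
        Nat.card ↥(cycl A x) * Nat.card ↥(A ⊓ centralizer (cycl A x : Set P)) ∧
      ∀ m ∈ cycl A x, ∃ b ∈ A, ∃ s ∈ A, m = ⁅x, b⁆ * s := by
  classical
  set M := cycl A x with hMdef
  set C := centralizer (M : Set P) with hC
  set S0 := (A ⊓ M).subgroupOf M with hS0
  set C0 := (A ⊓ C).subgroupOf A with hC0
  have hconj : ∀ a ∈ A, ∀ s ∈ A, a * s * a⁻¹ = s := fun a ha s hs => by
    rw [(abl_of_max hA a ha s hs).eq]; group
  let f : A → M ⧸ S0 := fun a => ((⟨⁅x, (a : P)⁆, comm_mem_cycl x a.2⟩ : M) : M ⧸ S0)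
  have hf : ∀ a b : A, f a = f b ↔ a⁻¹ * b ∈ C0 := by
    intro a b
    have e : (⁅x, (a : P)⁆⁻¹ * ⁅x, (b : P)⁆) = a * ⁅x, ((a⁻¹ * b : A) : P)⁆ * (a : P)⁻¹ := by
      have h := comm_mul_right x (a : P) ((a⁻¹ * b : A) : P)
      rw [show (a : P) * ((a⁻¹ * b : A) : P) = b by push_cast; group] at h
      rw [h]; group
    have hd : ((a⁻¹ * b : A) : P) ∈ A := (a⁻¹ * b).2
    show ((_ : M) : M ⧸ S0) = _ ↔ _
    rw [QuotientGroup.eq, hS0, hC0, mem_subgroupOf, mem_subgroupOf]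
    show ⁅x, (a : P)⁆⁻¹ * ⁅x, (b : P)⁆ ∈ A ⊓ M ↔ _
    constructor
    · intro h
      refine ⟨hd, mem_centralizer_cycl hA hd ?_ hM⟩
      have h1 : ⁅x, (a : P)⁆⁻¹ * ⁅x, (b : P)⁆ ∈ A := h.1
      have h2 := mul_mem (mul_mem (inv_mem a.2) h1) a.2
      rw [e] at h2
      simpa [mul_assoc] using h2
    · intro h
      refine ⟨?_, M.mul_mem (M.inv_mem (comm_mem_cycl x a.2)) (comm_mem_cycl x b.2)⟩
      rw [e, hconj _ a.2 _ (comm_mem_of_centralizer hA hd hM h.2)]
      exact comm_mem_of_centralizer hA hd hM h.2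
  let g : A ⧸ C0 → M ⧸ S0 := fun q => Quotient.liftOn' q f fun a b hab =>
    (hf a b).2 (QuotientGroup.leftRel_apply.1 hab)
  have hg : Function.Injective g := by
    intro u v huv
    induction u using QuotientGroup.induction_on with
    | H a =>
      induction v using QuotientGroup.induction_on with
      | H b => exact QuotientGroup.eq.2 ((hf a b).1 huv)
  have hle := card_mul_card_cent_le hA hM
  have hcardS : Nat.card S0 = Nat.card ↥(A ⊓ M) :=
    Nat.card_congr (subgroupOfEquivOfLe inf_le_right).toEquiv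
  have hcardC : Nat.card C0 = Nat.card ↥(A ⊓ C) :=
    Nat.card_congr (subgroupOfEquivOfLe inf_le_left).toEquiv
  have e1 : Nat.card M = Nat.card (M ⧸ S0) * Nat.card ↥(A ⊓ M) := by
    rw [← hcardS]; exact card_eq_card_quotient_mul_card_subgroup S0
  have e2 : Nat.card A = Nat.card (A ⧸ C0) * Nat.card ↥(A ⊓ C) := by
    rw [← hcardC]; exact card_eq_card_quotient_mul_card_subgroup C0
  have hqle : Nat.card (A ⧸ C0) ≤ Nat.card (M ⧸ S0) := Nat.card_le_card_of_injective g hg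
  have hpos1 : 0 < Nat.card ↥(A ⊓ M) := Nat.card_pos
  have hpos2 : 0 < Nat.card ↥(A ⊓ C) := Nat.card_pos
  have hq : Nat.card (M ⧸ S0) = Nat.card (A ⧸ C0) := by
    refine le_antisymm ?_ hqle
    rw [e1, e2] at hle
    refine Nat.le_of_mul_le_mul_right ?_ (Nat.mul_pos hpos1 hpos2)
    linarith
  refine ⟨by rw [e1, e2, hq]; ring, fun m hm => ?_⟩
  have hsurj : Function.Surjective g := by
    haveI := Fintype.ofFinite (A ⧸ C0)
    haveI := Fintype.ofFinite (M ⧸ S0)
    exact ((Fintype.bijective_iff_injective_and_card g).2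
      ⟨hg, by rw [← Nat.card_eq_fintype_card, ← Nat.card_eq_fintype_card]; exact hq.symm⟩).2
  obtain ⟨q, hq'⟩ := hsurj ((⟨m, hm⟩ : M) : M ⧸ S0)
  induction q using QuotientGroup.induction_on with
  | H a =>
    have h := QuotientGroup.eq.1 hq'
    rw [hS0, mem_subgroupOf] at h
    exact ⟨a, a.2, ⁅x, (a : P)⁆⁻¹ * m, h.1, by group⟩

end CfsgLib.JDegree
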