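import Cfsg.Agent.Kinf.JDegree.Full
import Cfsg.Prelude.Def_ConjugacyFunctors
import Mathlib.GroupTheory.Nilpotent

/-!
An abelian normal subgroup `Z` and an abelian subgroup `A` of largest order outside `Q` meeting `Z` as
much as possible: `[Z, A, A, A]` dies on every section centralized by `A ∩ Q`.
-/

set_option autoImplicit false
set_option linter.unusedSectionVars false
set_option linter.style.haveILetI false

namespace CfsgLib.JDegree

open Subgroup
open scoped commutatorElement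

variable {P : Type*} [Group P] [Finite P]

/-- An element reproduced by `w ↦ [w, b]` is trivial in a nilpotent group. -/
theorem eq_one_of_eq_comm [Group.IsNilpotent P] {w b : P} (h : w = ⁅w, b⁆) : w = 1 := by
  obtain ⟨n, hn⟩ := Subgroup.nilpotent_iff_lowerCentralSeries.1 (inferInstance : Group.IsNilpotent P)
  suffices ∀ k, w ∈ (⊤ : Subgroup P).lowerCentralSeries k by
    have := this n; rwa [hn, Subgroup.mem_bot] at this
  intro k
  induction k with
  | zero => rw [Subgroup.lowerCentralSeries_zero]; exact mem_top w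
  | succ k ih =>
    rw [Subgroup.lowerCentralSeries_succ, h]
    exact commutator_mem_commutator ih (mem_top b)

/-- A subgroup contained in its commutator with the group is trivial in a nilpotent group. -/
theorem eq_bot_of_le_comm [Group.IsNilpotent P] {M : Subgroup P} (h : M ≤ ⁅M, (⊤ : Subgroup P)⁆) :
    M = ⊥ := by
  obtain ⟨n, hn⟩ := Subgroup.nilpotent_iff_lowerCentralSeries.1 (inferInstance : Group.IsNilpotent P)
  suffices ∀ k, M ≤ (⊤ : Subgroup P).lowerCentralSeries k from le_bot_iff.1 ((this n).trans hn.le)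
  intro k
  induction k with
  | zero => rw [Subgroup.lowerCentralSeries_zero]; exact le_top
  | succ k ih =>
    rw [Subgroup.lowerCentralSeries_succ]
    exact h.trans (commutator_mono ih le_rfl)

theorem comm_mem_normal {Z : Subgroup P} [hZ : Z.Normal] {z : P} (hz : z ∈ Z) (c : P) :
    ⁅z, c⁆ ∈ Z := by
  rw [show ⁅z, c⁆ = z * (c * z⁻¹ * c⁻¹) by simp only [commutatorElement_def]; group]
  exact mul_mem hz (hZ.conj_mem _ (inv_mem hz) c)

theorem comm_mul_left_of_abl {Z : Subgroup P} [hZn : Z.Normal] (hZ : Abl Z) {z w : P} (hz : z ∈ Z)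
    (hw : w ∈ Z) (c : P) : ⁅z * w, c⁆ = ⁅z, c⁆ * ⁅w, c⁆ := by
  rw [comm_mul_left, (hZ z hz _ (comm_mem_normal hw c)).eq]
  rw [show ⁅w, c⁆ * z * z⁻¹ = ⁅w, c⁆ by group]
  exact (hZ _ (comm_mem_normal hw c) _ (comm_mem_normal hz c)).eq

/-- The operators `z ↦ [z, c]` on an abelian normal subgroup commute. -/
theorem comm_comm {Z : Subgroup P} [hZn : Z.Normal] (hZ : Abl Z) {z b c : P} (hz : z ∈ Z)
    (hbc : Commute b c) : ⁅⁅z, b⁆, c⁆ = ⁅⁅z, c⁆, b⁆ := by
  have key : ∀ b c : P, ⁅⁅z, b⁆, c⁆ =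
      z * (b * z⁻¹ * b⁻¹) * ((c * b) * z * (c * b)⁻¹) * (c * z⁻¹ * c⁻¹) := by
    intro b c; simp only [commutatorElement_def]; group
  rw [key, key, hbc.eq]
  have m1 : ∀ g : P, g * z⁻¹ * g⁻¹ ∈ Z := fun g => hZn.conj_mem _ (inv_mem hz) g
  have m2 : ∀ g : P, g * z * g⁻¹ ∈ Z := fun g => hZn.conj_mem _ hz g
  have cA := hZ _ (m1 b) _ (m2 (c * b))
  have cC := hZ _ (m1 c) _ (m2 (c * b))
  have cAC := hZ _ (m1 b) _ (m1 c)
  set U := b * z⁻¹ * b⁻¹
  set V := c * b * z * (c * b)⁻¹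
  set W := c * z⁻¹ * c⁻¹
  calc z * U * V * W = z * (U * (V * W)) := by group
    _ = z * (U * (W * V)) := by rw [cC.eq]
    _ = z * ((U * W) * V) := by group
    _ = z * ((W * U) * V) := by rw [cAC.eq]
    _ = z * (W * (U * V)) := by group
    _ = z * (W * (V * U)) := by rw [cA.eq]
    _ = z * W * V * U := by group

/-- An element commuting with `[x, A]` and with `C_A([x, A])` commutes with `A`. -/
theorem cycl_eq_bot_of_commute [Group.IsNilpotent P] {A : Subgroup P}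
    (hA : A ∈ Cfsg.maxAbelianSubgroups P) {x : P} (hM : Abl (cycl A x))
    (hxM : ∀ m ∈ cycl A x, Commute x m)
    (hC : ∀ k ∈ A, k ∈ centralizer (cycl A x : Set P) → Commute x k) : cycl A x = ⊥ := by
  set M := cycl A x with hMdef
  have hR : Abl (M ⊔ zpowers x) := abl_sup hM
    (fun u hu v hv => by
      obtain ⟨m, rfl⟩ := mem_zpowers_iff.1 hu
      obtain ⟨n, rfl⟩ := mem_zpowers_iff.1 hv
      exact Commute.zpow_zpow_self x m n)
    (fun m hm v hv => by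
      obtain ⟨n, rfl⟩ := mem_zpowers_iff.1 hv
      exact ((hxM m hm).zpow_left n).symm)
  set R := M ⊔ zpowers x with hRdef
  have hCR : A ⊓ centralizer (M : Set P) ≤ A ⊓ centralizer (R : Set P) := by
    rintro k ⟨hkA, hkC⟩
    refine ⟨hkA, ?_⟩
    rw [hRdef, Subgroup.sup_eq_closure, centralizer_closure]
    refine mem_centralizer_iff.2 ?_
    rintro v (hv | hv)
    · exact mem_centralizer_iff.1 hkC v hv
    · obtain ⟨n, rfl⟩ := mem_zpowers_iff.1 hv
      exact ((hC k hkA hkC).zpow_left n).eq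
  have h1 := card_mul_card_cent_le hA hR
  have h2 := (cycl_full hA hM).1
  have h3 : Nat.card ↥(A ⊓ centralizer (M : Set P)) ≤ Nat.card ↥(A ⊓ centralizer (R : Set P)) :=
    Nat.card_le_card_of_injective _ (inclusion_injective hCR)
  have hcomm : ∀ u ∈ M, ∀ v ∈ A ⊓ R, Commute u v := fun u hu v hv =>
    hR u (le_sup_left (a := M) hu) v hv.2
  have hinf : M ⊓ (A ⊓ R) = A ⊓ M :=
    le_antisymm (le_inf (inf_le_right.trans inf_le_left) inf_le_left)
      (le_inf inf_le_right (le_inf inf_le_left (inf_le_right.trans le_sup_left)))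
  have hsup : M ⊔ (A ⊓ R) = R := by
    refine sup_eq_of_card hcomm le_sup_left inf_le_right ?_
    rw [hinf]
    refine Nat.le_of_mul_le_mul_right ?_
      (Nat.card_pos (α := ↥(A ⊓ centralizer (M : Set P))))
    calc Nat.card R * Nat.card ↥(A ⊓ M) * Nat.card ↥(A ⊓ centralizer (M : Set P))
        = Nat.card R * Nat.card ↥(A ⊓ centralizer (M : Set P)) * Nat.card ↥(A ⊓ M) := by ring
      _ ≤ Nat.card R * Nat.card ↥(A ⊓ centralizer (R : Set P)) * Nat.card ↥(A ⊓ M) := by gcongr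
      _ ≤ Nat.card A * Nat.card ↥(A ⊓ R) * Nat.card ↥(A ⊓ M) := by gcongr
      _ = (Nat.card A * Nat.card ↥(A ⊓ M)) * Nat.card ↥(A ⊓ R) := by ring
      _ = _ := by rw [h2]; ring
  obtain ⟨m, hm, s, hs, hxeq⟩ := exists_mul_of_mem_sup hcomm
    (hsup.ge ((le_sup_right : zpowers x ≤ R) (mem_zpowers x)))
  refine eq_bot_of_le_comm ?_
  rw [hMdef]
  refine cycl_le fun a ha => ?_
  rw [hxeq, comm_mul_of_mem hA hs.1 ha]
  exact commutator_mem_commutator (hxeq ▸ hm) (mem_top a)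

/-- `A` is an abelian subgroup of largest order meeting the abelian normal `Z ≤ Q` as much as
possible among those outside `Q`. -/
structure Host (A Q Z : Subgroup P) : Prop where
  max : A ∈ Cfsg.maxAbelianSubgroups P
  normal : Z.Normal
  abl : Abl Z
  le : Z ≤ Q
  meas : ∀ A' ∈ Cfsg.maxAbelianSubgroups P, ¬ A' ≤ Q →
    Nat.card ↥(A' ⊓ Z) ≤ Nat.card ↥(A ⊓ Z)

variable {A Q Z : Subgroup P}

theorem Host.cycl_le (h : Host A Q Z) {x : P} (hx : x ∈ Z) : cycl A x ≤ Z :=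
  haveI := h.normal
  JDegree.cycl_le fun a _ => comm_mem_normal hx a

/-- Crossing: `C_A([x, A]) ≤ Q` when `[x, A]` is outside `A`. -/
theorem Host.cross (h : Host A Q Z) {x : P} (hx : x ∈ Z) (hxA : ¬ cycl A x ≤ A) :
    A ⊓ centralizer (cycl A x : Set P) ≤ Q := by
  set M := cycl A x
  have hM : Abl M := h.abl.mono (h.cycl_le hx)
  set C := A ⊓ centralizer (M : Set P)
  by_contra hCQ
  have hc : ∀ u ∈ M, ∀ v ∈ C, Commute u v := fun u hu v hv => commute_of_mem_centralizer hv.2 hu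
  have hinf : M ⊓ C = A ⊓ M :=
    le_antisymm (le_inf (inf_le_right.trans inf_le_left) inf_le_left)
      (le_inf inf_le_right (le_inf inf_le_left (inf_le_right.trans hM.le_centralizer)))
  have hcard : Nat.card A ≤ Nat.card ↥(M ⊔ C) := by
    refine Nat.le_of_mul_le_mul_right ?_ (Nat.card_pos (α := ↥(A ⊓ M)))
    rw [(cycl_full h.max hM).1, ← card_sup hc, hinf]
  have hab : Abl (M ⊔ C) := abl_sup hM ((abl_of_max h.max).mono inf_le_left) hc
  have hm := h.meas _ (mem_max h.max hab hcard) fun hle => hCQ (le_sup_right.trans hle)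
  have hZC : A ⊓ Z ≤ C := le_inf inf_le_left fun k hk => mem_centralizer_iff.2 fun u hu =>
    (h.abl u (h.cycl_le hx hu) k hk.2).eq
  have heq : A ⊓ Z = (M ⊔ C) ⊓ Z :=
    eq_of_le_of_card_ge (le_inf (hZC.trans le_sup_right) inf_le_right) hm
  exact hxA fun u hu => (heq.ge ⟨(le_sup_left : M ≤ _) hu, h.cycl_le hx hu⟩).1

/-- Elements of `Z` centralized by `A ∩ Q` are acted on quadratically by `A`. -/
theorem Host.quad [Group.IsNilpotent P] (h : Host A Q Z) {z : P} (hz : z ∈ Z)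
    (hzQ : ∀ k ∈ A, k ∈ Q → Commute z k) : ∀ a ∈ A, ⁅z, a⁆ ∈ A := by
  intro a ha
  by_contra hna
  have hMA : ¬ cycl A z ≤ A := fun hle => hna (hle (comm_mem_cycl z ha))
  have hM : Abl (cycl A z) := h.abl.mono (h.cycl_le hz)
  have hbot := cycl_eq_bot_of_commute h.max hM (fun m hm => h.abl z hz m (h.cycl_le hz hm))
    fun k hk hkC => hzQ k hk (h.cross hz hMA ⟨hk, hkC⟩)
  exact hMA (hbot.le.trans bot_le)

/-- `[x, A, A, A] = 1`. -/
def Deg3 (A : Subgroup P) (x : P) : Prop :=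
  ∀ a ∈ A, ∀ b ∈ A, ∀ c ∈ A, ⁅⁅⁅x, a⁆, b⁆, c⁆ = 1

theorem Host.mem_of_equation [Group.IsNilpotent P] (h : Host A Q Z) {x a a' b s : P} (hx : x ∈ Z)
    (ha : a ∈ A) (ha' : a' ∈ A) (hb : b ∈ A) (hs : s ∈ A)
    (e : ⁅⁅x, a⁆, a'⁆ = ⁅x, b⁆ * s) : Deg3 A x ∨ b ∈ Q := by
  classical
  haveI := h.normal
  have hAb := abl_of_max h.max
  by_contra hcon
  push Not at hcon
  obtain ⟨hx3, hbQ⟩ := hcon
  obtain ⟨n, hn⟩ := Subgroup.nilpotent_iff_lowerCentralSeries.1 (inferInstance : Group.IsNilpotent P)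
  suffices key : ∀ k, ∀ y : P, y ∈ Z → y ∈ (⊤ : Subgroup P).lowerCentralSeries k → ∀ t ∈ A,
      ⁅⁅y, a⁆, a'⁆ = ⁅y, b⁆ * t → ¬ Deg3 A y →
      ∃ y' ∈ Z, y' ∈ (⊤ : Subgroup P).lowerCentralSeries (k + 1) ∧
        ⁅⁅y', a⁆, a'⁆ = ⁅y', b⁆ * 1 ∧ ¬ Deg3 A y' by
    have hall : ∀ k, ∃ y ∈ Z, y ∈ (⊤ : Subgroup P).lowerCentralSeries k ∧
        (∃ t ∈ A, ⁅⁅y, a⁆, a'⁆ = ⁅y, b⁆ * t) ∧ ¬ Deg3 A y := by
      intro k
      induction k with
      | zero => exact ⟨x, hx, by rw [Subgroup.lowerCentralSeries_zero]; exact mem_top x,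
          ⟨s, hs, e⟩, hx3⟩
      | succ k ih =>
        obtain ⟨y, hy, hyk, ⟨t, ht, ey⟩, hy3⟩ := ih
        obtain ⟨y', hy', hyk', ey', hy3'⟩ := key k y hy hyk t ht ey hy3
        exact ⟨y', hy', hyk', ⟨1, one_mem A, ey'⟩, hy3'⟩
    obtain ⟨y, -, hyn, -, hy3⟩ := hall n
    rw [hn, Subgroup.mem_bot] at hyn
    exact hy3 fun a _ b _ c _ => by simp [hyn]
  intro k y hy hyk t ht ey hy3
  -- some `[y, c]` has degree at least three
  obtain ⟨c, hc, hc2⟩ : ∃ c ∈ A, ¬ ∀ u ∈ A, ∀ v ∈ A, ⁅⁅⁅y, c⁆, u⁆, v⁆ = 1 := by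
    by_contra hall
    push Not at hall
    exact hy3 fun u hu v hv w hw => hall u hu v hv w hw
  have hyc := comm_mem_normal hy c
  have htZ : t ∈ Z := by
    rw [show t = ⁅y, b⁆⁻¹ * ⁅⁅y, a⁆, a'⁆ by rw [ey]; group]
    exact mul_mem (inv_mem (comm_mem_normal hy b)) (comm_mem_normal (comm_mem_normal hy a) a')
  have ey' : ⁅⁅⁅y, c⁆, a⁆, a'⁆ = ⁅⁅y, c⁆, b⁆ := by
    rw [comm_comm h.abl hy (hAb c hc a ha), comm_comm h.abl (comm_mem_normal hy a) (hAb c hc a' ha'),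
      ey, comm_mul_of_mem h.max ht hc, comm_comm h.abl hy (hAb b hb c hc)]
  refine ⟨⁅y, c⁆, hyc, ?_, by rw [ey', mul_one], fun hd => ?_⟩
  · rw [Subgroup.lowerCentralSeries_succ]; exact commutator_mem_commutator hyk (mem_top c)
  -- otherwise `b` centralizes `[[y, c], A]`, which lies outside `A`
  have hbA : ⁅⁅y, c⁆, b⁆ ∈ A := by
    refine mem_of_commute h.max fun w hw => commutatorElement_eq_one_iff_commute.1 ?_
    rw [← ey']
    exact hd a ha a' ha' w hw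
  have hout : ¬ cycl A ⁅y, c⁆ ≤ A := fun hle =>
    hc2 fun u hu v hv => comm_eq_one_of_mem h.max (hle (comm_mem_cycl _ hu)) hv
  exact hbQ (h.cross hyc hout
    ⟨hb, mem_centralizer_cycl h.max hb hbA (h.abl.mono (h.cycl_le hyc))⟩)

/-- **The abelian lemma**: either `[x, a, a', A] = 1` or `[x, a, a'] ∈ [x, A ∩ Q] A`. -/
theorem Host.triple [Group.IsNilpotent P] (h : Host A Q Z) {x a a' : P} (hx : x ∈ Z) (ha : a ∈ A)
    (ha' : a' ∈ A) : (∀ c ∈ A, ⁅⁅⁅x, a⁆, a'⁆, c⁆ = 1) ∨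
      ∃ b ∈ A, b ∈ Q ∧ ∃ s ∈ A, ⁅⁅x, a⁆, a'⁆ = ⁅x, b⁆ * s := by
  obtain ⟨b, hb, s, hs, e⟩ := (cycl_full h.max (h.abl.mono (h.cycl_le hx))).2 _
    (comm_cycl_mem (comm_mem_cycl x ha) ha')
  rcases h.mem_of_equation hx ha ha' hb hs e with h3 | hbQ
  · exact Or.inl fun c hc => h3 a ha a' ha' c hc
  · exact Or.inr ⟨b, hb, hbQ, s, hs, e⟩

/-- The elements of `Z` sent into `T` by every `z ↦ [z, c]`, `c ∈ A`. -/
def preZ (A Z T : Subgroup P) [Z.Normal] (hZ : Abl Z) : Subgroup P where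
  carrier := {u | u ∈ Z ∧ ∀ c ∈ A, ⁅u, c⁆ ∈ T}
  one_mem' := ⟨one_mem Z, fun c _ => by simp⟩
  mul_mem' := fun {u v} hu hv => ⟨mul_mem hu.1 hv.1, fun c hc => by
    rw [comm_mul_left_of_abl hZ hu.1 hv.1]; exact mul_mem (hu.2 c hc) (hv.2 c hc)⟩
  inv_mem' := fun {u} hu => ⟨inv_mem hu.1, fun c hc => by
    have h := comm_mul_left_of_abl hZ hu.1 (inv_mem hu.1) c
    rw [mul_inv_cancel, commutatorElement_one_left] at h
    rw [eq_inv_of_mul_eq_one_right h.symm]; exact inv_mem (hu.2 c hc)⟩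

/-- `[X, a, a, a] ≤ Y` on a section `X / Y` of `Z` centralized by `A ∩ Q`. -/
theorem Host.iterCommutator_le [Group.IsNilpotent P] (h : Host A Q Z) {X Y : Subgroup P} [Y.Normal]
    (hX : X ≤ Z) (hXQ : ∀ x ∈ X, ∀ q ∈ Q, ⁅x, q⁆ ∈ Y) {a : P} (ha : a ∈ A) :
    Cfsg.iterCommutator X (zpowers a) 3 ≤ Y := by
  haveI := h.normal
  have hz : ∀ u ∈ zpowers a, u ∈ A := fun u hu => zpowers_le.2 ha hu
  have h3 : X ≤ preZ A Z (preZ A Z (preZ A Z Y h.abl) h.abl) h.abl := by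
    intro x hx
    refine ⟨hX hx, fun u hu => ⟨comm_mem_normal (hX hx) u, fun v hv =>
      ⟨comm_mem_normal (comm_mem_normal (hX hx) u) v, fun w hw => ?_⟩⟩⟩
    rcases h.triple (hX hx) hu hv with h1 | ⟨b, hb, hbQ, s, hs, e⟩
    · rw [h1 w hw]; exact one_mem Y
    · rw [e, comm_mul_of_mem h.max hs hw]
      exact comm_mem_normal (hXQ x hx b hbQ) w
  have step : ∀ {U T : Subgroup P}, U ≤ preZ A Z T h.abl → ⁅U, zpowers a⁆ ≤ T := fun hU =>
    commutator_le.2 fun u hu v hv => (hU hu).2 v (hz v hv)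
  exact step (step (step h3))

end CfsgLib.JDegree
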