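import Cfsg.Agent.Kinf.JDegree.ClassTwo

/-!
The series `W n = [C, A, …, A] Z` and the commutator pairing along it.
-/

set_option autoImplicit false
set_option linter.unusedSectionVars false
set_option linter.style.haveILetI false

namespace CfsgLib.JDegree

open Subgroup
open scoped commutatorElement

variable {P : Type*} [Group P] [Finite P] {A Q Z C : Subgroup P}

/-- `[C, A, …, A] Z`. -/
def wser (A Z C : Subgroup P) : ℕ → Subgroup P
  | 0 => C
  | n + 1 => ⁅wser A Z C n, A⁆ ⊔ Z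

theorem Host2.z_le_wser (h : Host2 A Q Z C) : ∀ n, Z ≤ wser A Z C n
  | 0 => h.z_le
  | _ + 1 => le_sup_right

theorem Host2.wser_succ_le (h : Host2 A Q Z C) : ∀ n, wser A Z C (n + 1) ≤ wser A Z C n
  | 0 => sup_le (commutator_le.2 fun _ hu c _ => h.comm_mem hu c) h.z_le
  | n + 1 => sup_le ((commutator_mono (h.wser_succ_le n) le_rfl).trans le_sup_left) le_sup_right

theorem Host2.wser_antitone (h : Host2 A Q Z C) : Antitone (wser A Z C) :=
  antitone_nat_of_succ_le h.wser_succ_le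

theorem Host2.wser_le (h : Host2 A Q Z C) (n : ℕ) : wser A Z C n ≤ C :=
  h.wser_antitone (Nat.zero_le n)

theorem comm_mem_wser {n : ℕ} {u c : P} (hu : u ∈ wser A Z C n) (hc : c ∈ A) :
    ⁅u, c⁆ ∈ wser A Z C (n + 1) :=
  (le_sup_left : _ ≤ ⁅wser A Z C n, A⁆ ⊔ Z) (commutator_mem_commutator hu hc)

/-- The series reaches `Z`. -/
theorem Host2.exists_wser_le [Group.IsNilpotent P] (h : Host2 A Q Z C) :
    ∃ n, wser A Z C n ≤ Z := by
  haveI := h.host.normal
  obtain ⟨n, hn⟩ := Subgroup.nilpotent_iff_lowerCentralSeries.1 (inferInstance : Group.IsNilpotent P)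
  suffices ∀ k, wser A Z C k ≤ (⊤ : Subgroup P).lowerCentralSeries k ⊔ Z from
    ⟨n, (this n).trans (by rw [hn, bot_sup_eq])⟩
  intro k
  induction k with
  | zero => rw [Subgroup.lowerCentralSeries_zero]; exact le_top.trans le_sup_left
  | succ k ih =>
    refine sup_le (commutator_le.2 fun u hu c hc => ?_) le_sup_right
    have hu' := ih hu
    rw [mem_sup_of_normal_right] at hu'
    obtain ⟨g, hg, z, hz, rfl⟩ := hu'
    rw [comm_mul_left]
    refine mul_mem ((le_sup_right : Z ≤ _) (h.host.normal.conj_mem _ (comm_mem_normal hz c) g))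
      ((le_sup_left : _ ≤ (⊤ : Subgroup P).lowerCentralSeries (k + 1) ⊔ Z) ?_)
    rw [Subgroup.lowerCentralSeries_succ]
    exact commutator_mem_commutator hg (mem_top c)

/-- A subgroup containing the generators contains the next term. -/
theorem wser_succ_le_of {T : Subgroup P} {n : ℕ} (hZ : Z ≤ T)
    (h : ∀ u ∈ wser A Z C n, ∀ c ∈ A, ⁅u, c⁆ ∈ T) : wser A Z C (n + 1) ≤ T :=
  sup_le (commutator_le.2 h) hZ

/-- The elements of `C` sent into `T ⊇ Z` by every `u ↦ [u, c]`, `c ∈ A`. -/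
def preC (h : Host2 A Q Z C) (T : Subgroup P) (hT : Z ≤ T) : Subgroup P where
  carrier := {u | u ∈ C ∧ ∀ c ∈ A, ⁅u, c⁆ ∈ T}
  one_mem' := ⟨one_mem C, fun c _ => by simp⟩
  mul_mem' := fun {u v} hu hv => ⟨mul_mem hu.1 hv.1, fun c hc => by
    rw [comm_mul_left,
      show u * ⁅v, c⁆ * u⁻¹ = ⁅u, ⁅v, c⁆⁆ * ⁅v, c⁆ by simp only [commutatorElement_def]; group]
    exact mul_mem (mul_mem (hT (h.comm_mem_z hu.1 (h.comm_mem hv.1 c))) (hv.2 c hc)) (hu.2 c hc)⟩
  inv_mem' := fun {u} hu => ⟨inv_mem hu.1, fun c hc => by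
    rw [show ⁅u⁻¹, c⁆ = ⁅u⁻¹, ⁅u, c⁆⁻¹⁆ * ⁅u, c⁆⁻¹ by simp only [commutatorElement_def]; group]
    exact mul_mem (hT (h.comm_mem_z (inv_mem hu.1) (inv_mem (h.comm_mem hu.1 c))))
      (inv_mem (hu.2 c hc))⟩

theorem le_preC (h : Host2 A Q Z C) (T : Subgroup P) (hT : Z ≤ T) : Z ≤ preC h T hT :=
  fun u hu => ⟨h.z_le hu, fun c _ => hT (haveI := h.host.normal; comm_mem_normal hu c)⟩

/-- The elements of `C` pairing with `v` into `T`. -/
def pairPre (h : Host2 A Q Z C) {v : P} (hv : v ∈ C) (T : Subgroup P) : Subgroup P where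
  carrier := {u | u ∈ C ∧ ⁅u, v⁆ ∈ T}
  one_mem' := ⟨one_mem C, by simp⟩
  mul_mem' := fun {u w} hu hw => ⟨mul_mem hu.1 hw.1, by
    rw [h.pair_mul_left hu.1 hw.1 hv]; exact mul_mem hu.2 hw.2⟩
  inv_mem' := fun {u} hu => ⟨inv_mem hu.1, by rw [h.pair_inv_left hu.1 hv]; exact inv_mem hu.2⟩

theorem le_pairPre (h : Host2 A Q Z C) {v : P} (hv : v ∈ C) (T : Subgroup P) :
    Z ≤ pairPre h hv T := fun u hu => ⟨h.z_le hu, by
  rw [commutatorElement_eq_one_iff_commute.2 (h.central hu hv)]; exact one_mem T⟩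

theorem Host2.pair_eq_one_of_left (h : Host2 A Q Z C) {u v : P} (hu : u ∈ Z) (hv : v ∈ C) :
    ⁅u, v⁆ = 1 :=
  commutatorElement_eq_one_iff_commute.2 (h.central hu hv)

theorem Host2.pair_eq_one_of_right (h : Host2 A Q Z C) {u v : P} (hu : u ∈ C) (hv : v ∈ Z) :
    ⁅u, v⁆ = 1 :=
  commutatorElement_eq_one_iff_commute.2 (h.central hv hu).symm

/-- Pairs of total depth at least `d` pair into `A`. -/
theorem Host2.pair_mem [Group.IsNilpotent P] (h : Host2 A Q Z C) {d : ℕ} (hd : wser A Z C d ≤ Z) :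
    ∀ {i j : ℕ}, d ≤ i + j → ∀ {u v : P}, u ∈ wser A Z C i → v ∈ wser A Z C j → ⁅u, v⁆ ∈ A := by
  suffices key : ∀ m i j, d ≤ i + j → 2 * d ≤ i + j + m → ∀ u v, u ∈ wser A Z C i →
      v ∈ wser A Z C j → ⁅u, v⁆ ∈ A from
    fun {i j} hij {u v} hu hv => key (2 * d) i j hij (by omega) u v hu hv
  intro m
  induction m with
  | zero =>
    intro i j _ h2 u v hu hv
    rcases (by omega : d ≤ i ∨ d ≤ j) with hi | hj
    · rw [h.pair_eq_one_of_left (hd (h.wser_antitone hi hu)) (h.wser_le j hv)]; exact one_mem A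
    · rw [h.pair_eq_one_of_right (h.wser_le i hu) (hd (h.wser_antitone hj hv))]; exact one_mem A
  | succ m ihm =>
    intro i
    induction i with
    | zero =>
      intro j hij _ u v hu hv
      rw [h.pair_eq_one_of_right (h.wser_le 0 hu) (hd (h.wser_antitone (by omega) hv))]
      exact one_mem A
    | succ i ihi =>
      intro j hij h2 u v hu hv
      have hvC := h.wser_le j hv
      refine (wser_succ_le_of (T := pairPre h hvC A) (le_pairPre h hvC A) (fun w hw c hc => ?_) hu).2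
      have hwC := h.wser_le i hw
      refine ⟨h.comm_mem hwC c, ?_⟩
      rw [h.transfer hwC hvC c]
      refine mul_mem (mul_mem (h.pair_comm_fix hwC hvC hc) ?_) (inv_mem ?_)
      · exact ihm (i + 1) (j + 1) (by omega) (by omega) _ _ (comm_mem_wser hw hc) (comm_mem_wser hv hc)
      · exact ihi (j + 1) (by omega) (by omega) _ _ hw (comm_mem_wser hv hc)

/-- Pairs of total depth more than `d` commute. -/
theorem Host2.pair_eq_one [Group.IsNilpotent P] (h : Host2 A Q Z C) {d : ℕ} (hd : wser A Z C d ≤ Z) :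
    ∀ {i j : ℕ}, d + 1 ≤ i + j → ∀ {u v : P}, u ∈ wser A Z C i → v ∈ wser A Z C j →
      ⁅u, v⁆ = 1 := by
  suffices key : ∀ m i j, d + 1 ≤ i + j → 2 * d ≤ i + j + m → ∀ u v, u ∈ wser A Z C i →
      v ∈ wser A Z C j → ⁅u, v⁆ = 1 from
    fun {i j} hij {u v} hu hv => key (2 * d) i j hij (by omega) u v hu hv
  intro m
  induction m with
  | zero =>
    intro i j _ h2 u v hu hv
    rcases (by omega : d ≤ i ∨ d ≤ j) with hi | hj
    · exact h.pair_eq_one_of_left (hd (h.wser_antitone hi hu)) (h.wser_le j hv)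
    · exact h.pair_eq_one_of_right (h.wser_le i hu) (hd (h.wser_antitone hj hv))
  | succ m ihm =>
    intro i
    induction i with
    | zero =>
      intro j hij _ u v hu hv
      exact h.pair_eq_one_of_right (h.wser_le 0 hu) (hd (h.wser_antitone (by omega) hv))
    | succ i ihi =>
      intro j hij h2 u v hu hv
      have hvC := h.wser_le j hv
      refine mem_bot.1 (wser_succ_le_of (T := pairPre h hvC ⊥) (le_pairPre h hvC ⊥)
        (fun w hw c hc => ?_) hu).2
      have hwC := h.wser_le i hw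
      refine ⟨h.comm_mem hwC c, mem_bot.2 ?_⟩
      rw [h.transfer hwC hvC c,
        comm_eq_one_of_mem h.host.max (h.pair_mem hd (by omega) hw hv) hc,
        ihm (i + 1) (j + 1) (by omega) (by omega) _ _ (comm_mem_wser hw hc) (comm_mem_wser hv hc),
        ihi (j + 1) (by omega) (by omega) _ _ hw (comm_mem_wser hv hc)]
      simp

end CfsgLib.JDegree
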